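import Cfsg.Agent.H198.FC.Defs
import Mathlib
import Cfsg.Agent.H578.Base3
import Cfsg.Agent.H198.FC.DefsB
import Cfsg.Agent.TitsThree.PQClass
import Cfsg.Agent.S0752
import Cfsg.Agent.H563.FC.Spe
import Cfsg.Agent.H786.FC.Parts
import Cfsg.Agent.H716.FC.Sc
set_option linter.all false

-- part: H393/FC/C2
section
/-!
# S5764, `StmtC2`: stabilizers of decompositions (helper393)
-/

set_option autoImplicit false

namespace Cfsg.Agent.H393.FC

open Cfsg.Agent.H198.FC

universe u v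

/-! ### rings with a complete set of orthogonal idempotents and a shift -/

section ring

variable {A : Type*} [Ring A] {k : ℕ} {e : Fin k → A} {h : A}

/-- `h` maps the block `j` to the block `j + 1`, not trivially -/
structure Shift (e : Fin k → A) (h : A) : Prop where
  idem : ∀ i, e i * e i = e i
  orth : ∀ i j, i ≠ j → e i * e j = 0
  sum : ∑ i, e i = 1
  ne : ∀ i, e i ≠ 0
  h0 : ∀ i j : Fin k, (i : ℕ) ≠ j + 1 → e i * h * e j = 0
  h1 : ∀ i j : Fin k, (i : ℕ) = j + 1 → e i * h * e j ≠ 0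
  h2 : ∀ i j l : Fin k, (i : ℕ) = j + 1 → (j : ℕ) = l + 1 → e i * h * e j * h * e l ≠ 0

theorem Shift.ext (H : Shift e h) {a b : A} (hab : ∀ i, a * e i = b * e i) : a = b := by
  calc a = a * ∑ i, e i := by rw [H.sum, mul_one]
    _ = b * ∑ i, e i := by rw [Finset.mul_sum, Finset.mul_sum]; exact Finset.sum_congr rfl fun i _ => hab i
    _ = b := by rw [H.sum, mul_one]

theorem Shift.ext' (H : Shift e h) {a b : A} (hab : ∀ i, e i * a = e i * b) : a = b := by
  calc a = (∑ i, e i) * a := by rw [H.sum, one_mul]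
    _ = (∑ i, e i) * b := by rw [Finset.sum_mul, Finset.sum_mul]; exact Finset.sum_congr rfl fun i _ => hab i
    _ = b := by rw [H.sum, one_mul]

theorem Shift.col (H : Shift e h) {i j : Fin k} (hij : (i : ℕ) = j + 1) : h * e j = e i * (h * e j) := by
  refine H.ext' fun l => ?_
  by_cases hl : l = i
  · rw [hl, ← mul_assoc (e i) (e i), H.idem]
  · rw [← mul_assoc (e l) (e i), H.orth l i hl, zero_mul, ← mul_assoc]
    exact H.h0 l j fun h => hl (Fin.ext (h.trans hij.symm))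

theorem Shift.col_last (H : Shift e h) {j : Fin k} (hj : (j : ℕ) + 1 = k) : h * e j = 0 := by
  refine H.ext' fun l => ?_
  rw [mul_zero, ← mul_assoc]
  exact H.h0 l j (by have := l.2; omega)

theorem Shift.row (H : Shift e h) {i j : Fin k} (hij : (i : ℕ) = j + 1) : e i * h = e i * h * e j := by
  refine H.ext fun l => ?_
  by_cases hl : l = j
  · rw [hl, mul_assoc (e i * h), H.idem]
  · rw [mul_assoc (e i * h) (e j), H.orth j l (fun h => hl h.symm), mul_zero]
    exact H.h0 i l fun h => hl (Fin.ext (by omega))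

theorem Shift.row_first (H : Shift e h) {i : Fin k} (hi : (i : ℕ) = 0) : e i * h = 0 := by
  refine H.ext fun l => ?_
  rw [zero_mul]
  exact H.h0 i l (by omega)

theorem Shift.pow (H : Shift e h) (m : ℕ) : ∀ i j : Fin k, (i : ℕ) ≠ j + m → e i * h ^ m * e j = 0 := by
  induction m with
  | zero =>
    intro i j hij
    rw [pow_zero, mul_one]
    exact H.orth i j fun h => hij (by rw [h]; omega)
  | succ m ih =>
    intro i j hij
    rw [pow_succ, ← mul_assoc, mul_assoc _ h]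
    by_cases hj : (j : ℕ) + 1 < k
    · rw [H.col (i := ⟨j + 1, hj⟩) rfl, ← mul_assoc, ih i ⟨j + 1, hj⟩ (by simpa [add_assoc, add_comm 1 m] using hij),
        zero_mul]
    · rw [H.col_last (by have := j.2; omega), mul_zero]

theorem Shift.isNilpotent (H : Shift e h) : IsNilpotent h := by
  refine ⟨k, H.ext' fun i => ?_⟩
  rw [mul_zero]
  refine H.ext fun j => ?_
  rw [zero_mul]
  exact H.pow k i j (by have := i.2; omega)

/-- **automorphisms** -/
theorem Shift.aut (H : Shift e h) {f : A → A} (hf : Function.Injective f) (hadd : ∀ X Y, f (X + Y) = f X + f Y)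
    (hmul : ∀ X Y, f (X * Y) = f X * f Y) (h1 : f 1 = 1) {π ρ : Equiv.Perm (Fin k)} (hπ : ∀ i, f (e i) = e (π i)) {m : A}
    (hm : m * f (1 + h) = 1 + h) (hρ : ∀ j, m * e j = e (ρ j) * m) :
    (∀ i, f (e i) = e i) ∧ f h = h := by
  have hf0 : f 0 = 0 := by
    have := hadd 0 0
    rw [add_zero] at this
    exact left_eq_add.1 this
  rw [hadd, h1] at hm
  have key : ∀ n : ℕ, ∀ j : Fin k, k ≤ j + n → π j = j ∧ m * e j = e j ∧ f h * e j = h * e j := by
    intro n
    induction n with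
    | zero => intro j hj; have := j.2; omega
    | succ n ih =>
      intro j hj
      by_cases hjn : k ≤ j + n
      · exact ih j hjn
      have hjn' : (j : ℕ) + n + 1 = k := by omega
      have ih' : ∀ i : Fin k, j < i → π i = i ∧ m * e i = e i ∧ f h * e i = h * e i := fun i hi =>
        ih i (by have : (j : ℕ) < i := hi; omega)
      obtain ⟨p, hp⟩ : ∃ p, p = π j := ⟨_, rfl⟩
      have hpj : p ≤ j := by
        by_contra hcon
        push Not at hcon
        have h2 := (ih' p hcon).1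
        have h3 : p = j := π.injective (h2.trans hp)
        exact absurd h3 hcon.ne'
      -- `m f(h) e_p = f(h) e_p`
      have hfh : f h * e p = f (h * e j) := by rw [hmul, hπ, ← hp]
      have hmf : m * (f h * e p) = f h * e p ∧ e p * (f h * e p) = 0 := by
        rw [hfh]
        by_cases hlast : (j : ℕ) + 1 = k
        · rw [H.col_last hlast, hf0, mul_zero, mul_zero]
          exact ⟨rfl, rfl⟩
        · have hjk : (j : ℕ) + 1 < k := by have := j.2; omega
          have hlt : j < (⟨j + 1, hjk⟩ : Fin k) := Fin.lt_def.2 (Nat.lt_succ_self _)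
          obtain ⟨h2, h3, -⟩ := ih' ⟨j + 1, hjk⟩ hlt
          rw [H.col (i := ⟨j + 1, hjk⟩) rfl, hmul, hπ, h2]
          constructor
          · rw [← mul_assoc, h3]
          · rw [← mul_assoc, H.orth p _ (fun h => absurd (by rw [← h]; exact hpj) (not_le.2 hlt)), zero_mul]
      have hI : m * e p + f h * e p = e p + h * e p := by
        have h2 := congrArg (· * e p) hm
        simp only [mul_add, mul_one, add_mul, one_mul] at h2
        rw [mul_assoc m (f h) (e p), hmf.1] at h2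
        exact h2
      have hpp : e p * m * e p = e p := by
        have h2 := congrArg (e p * ·) hI
        simp only [mul_add] at h2
        rw [hmf.2, add_zero, H.idem, ← mul_assoc, ← mul_assoc, H.h0 p p (by omega), add_zero] at h2
        exact h2
      have hmp : m * e p = e p := by
        have h2 : ρ p = p := by
          by_contra hne
          have h3 : e p * m * e p = 0 := by
            rw [mul_assoc, hρ, ← mul_assoc, H.orth p _ (fun h => hne h.symm), zero_mul]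
          rw [hpp] at h3
          exact H.ne p h3
        have h3 := hρ p
        rw [h2] at h3
        calc m * e p = m * e p * e p := by rw [mul_assoc, H.idem]
          _ = e p := by rw [h3, hpp]
      have hhp : f h * e p = h * e p := by
        rw [hmp] at hI
        exact add_left_cancel hI
      have hpj' : p = j := by
        by_cases hlast : (j : ℕ) + 1 = k
        · by_contra hne
          have hplt : (p : ℕ) + 1 < k := by
            have h2 : (p : ℕ) ≤ j := hpj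
            have h3 : (p : ℕ) ≠ j := fun h => hne (Fin.ext h)
            omega
          apply H.h1 ⟨p + 1, hplt⟩ p rfl
          rw [mul_assoc, ← hhp, hfh, H.col_last hlast, hf0, mul_zero]
        · have hjk : (j : ℕ) + 1 < k := by have := j.2; omega
          have hlt : j < (⟨j + 1, hjk⟩ : Fin k) := Fin.lt_def.2 (Nat.lt_succ_self _)
          obtain ⟨h2, h3, -⟩ := ih' ⟨j + 1, hjk⟩ hlt
          by_contra hne
          have h4 : f (h * e j) = 0 := by
            rw [H.col (i := ⟨j + 1, hjk⟩) rfl, hmul, hπ, h2, ← hfh, hhp, ← mul_assoc]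
            exact H.h0 _ p fun h => hne (Fin.ext (by simpa using h.symm))
          have h5 : h * e j = 0 := hf (by rw [h4, hf0])
          apply H.h1 ⟨j + 1, hjk⟩ j rfl
          rw [mul_assoc, h5, mul_zero]
      rw [hpj'] at hp hmp hhp
      exact ⟨hp.symm, hmp, hhp⟩
  have hall := fun j : Fin k => key k j (by omega)
  exact ⟨fun i => by rw [hπ, (hall i).1], H.ext fun j => (hall j).2.2⟩

/-- **anti-automorphisms** -/
theorem Shift.anti (H : Shift e h) {f : A → A} (hadd : ∀ X Y, f (X + Y) = f X + f Y)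
    (hinj : Function.Injective f)
    (hmul : ∀ X Y, f (X * Y) = f Y * f X) (h1 : f 1 = 1) {π ρ : Equiv.Perm (Fin k)} (hπ : ∀ i, f (e i) = e (π i)) {m : A}
    (hm : (1 + h) * f (1 + h) = m) (hρ : ∀ j, m * e j = e (ρ j) * m) (h2k : 2 ≤ k) :
    k = 2 ∧ f h = - h ∧ ∀ i, π i ≠ i := by
  have hf0 : f 0 = 0 := by
    have := hadd 0 0
    rw [add_zero] at this
    exact left_eq_add.1 this
  rw [hadd, h1] at hm
  obtain ⟨z, hz⟩ : ∃ z : Fin k, (z : ℕ) = 0 := ⟨⟨0, by omega⟩, rfl⟩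
  obtain ⟨t, ht⟩ : ∃ t : Fin k, (t : ℕ) + 1 = k := ⟨⟨k - 1, by omega⟩, by simp; omega⟩
  obtain ⟨s, hs⟩ : ∃ s : Fin k, (t : ℕ) = s + 1 := ⟨⟨k - 2, by omega⟩, by simp; omega⟩
  have hzh : e z * h = 0 := H.row_first hz
  have hzm : e z * m = e z + e z * f h := by
    rw [← hm, ← mul_assoc, mul_add (e z), mul_one, hzh, add_zero, mul_add, mul_one]
  -- diagonal blocks
  have hdiag : ∀ i, e i * f h * e i = 0 := by
    intro i
    obtain ⟨j, rfl⟩ := π.surjective i
    rw [← hπ, mul_assoc, ← hmul, ← hmul, H.h0 j j (by omega), hf0]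
  have hzmz : e z * m * e z = e z := by rw [hzm, add_mul, H.idem, hdiag, add_zero]
  have hρz : ρ z = z := by
    by_contra hne
    have h3 : e z * m * e z = 0 := by
      rw [mul_assoc, hρ, ← mul_assoc, H.orth z _ (fun h => hne h.symm), zero_mul]
    rw [hzmz] at h3
    exact H.ne z h3
  have hcomm : m * e z = e z * m := by rw [hρ, hρz]
  have hmz : m * e z = e z := by
    calc m * e z = m * e z * e z := by rw [mul_assoc, H.idem]
      _ = e z := by rw [hcomm, hzmz]
  have hzf : e z * f h = 0 := by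
    have h3 : e z * m = e z := by rw [← hcomm, hmz]
    rw [hzm] at h3
    exact left_eq_add.1 h3.symm
  -- `π t = z`
  have hπt : π t = z := by
    obtain ⟨i, hi⟩ := π.surjective z
    have h3 : f (h * e i) = 0 := by rw [hmul, hπ, hi, hzf]
    have h4 : h * e i = 0 := hinj (by rw [h3, hf0])
    have h5 : (i : ℕ) + 1 = k := by
      by_contra hne
      have hik : (i : ℕ) + 1 < k := by have := i.2; omega
      apply H.h1 ⟨i + 1, hik⟩ i rfl
      rw [mul_assoc, h4, mul_zero]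
    rw [← hi]
    congr 1
    exact Fin.ext (by omega)
  obtain ⟨r, hr⟩ : ∃ r, r = π s := ⟨_, rfl⟩
  have hrz : r ≠ z := by
    intro h3
    have h4 : π s = π t := by rw [← hr, h3, hπt]
    have h5 : (s : ℕ) = t := congrArg (fun i : Fin k => (i : ℕ)) (π.injective h4)
    omega
  have hfz : f h * e z = f (e t * h) := by rw [hmul, hπ, hπt]
  have hfz' : f h * e z = e r * (f h * e z) := by
    rw [hfz, H.row hs, hmul, hπ, ← hr, ← mul_assoc, H.idem]
  have hfz0 : f h * e z ≠ 0 := by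
    rw [hfz]
    intro h3
    have h4 : e t * h = 0 := hinj (by rw [h3, hf0])
    apply H.h1 t s hs
    rw [h4, zero_mul]
  have hI : f h * e z + h * e z + h * (f h * e z) = 0 := by
    have h3 := hmz
    rw [← hm] at h3
    have h4 : (1 + h) * (1 + f h) * e z = e z + (f h * e z + h * e z + h * (f h * e z)) := by noncomm_ring
    rw [h4] at h3
    exact left_eq_add.1 h3.symm
  have hrow : f h * e z + e r * h * e z = 0 := by
    have h3 := congrArg (e r * ·) hI
    simp only [mul_add, mul_zero] at h3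
    rw [← hfz'] at h3
    have h4 : e r * (h * (f h * e z)) = 0 := by
      rw [hfz', ← mul_assoc, ← mul_assoc, H.h0 r r (by omega), zero_mul]
    rw [h4, add_zero, ← mul_assoc] at h3
    exact h3
  have hr1 : (r : ℕ) = z + 1 := by
    by_contra hne
    rw [H.h0 r z hne, add_zero] at hrow
    exact hfz0 hrow
  have hcol : e r * h * e z = h * e z := by rw [mul_assoc, ← H.col hr1]
  rw [hcol] at hrow
  have hneg : f h * e z = -(h * e z) := eq_neg_of_add_eq_zero_left hrow
  have hk2 : k = 2 := by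
    by_contra hne
    have h3 : h * (h * e z) = 0 := by
      rw [hneg] at hI
      have h4 : -(h * e z) + h * e z + h * -(h * e z) = -(h * (h * e z)) := by noncomm_ring
      rw [h4, neg_eq_zero] at hI
      exact hI
    have hlt : (r : ℕ) + 1 < k := by omega
    apply H.h2 ⟨r + 1, hlt⟩ r z rfl hr1
    rw [mul_assoc, mul_assoc, mul_assoc, ← mul_assoc (e r), hcol, h3, mul_zero]
  refine ⟨hk2, ?_, ?_⟩
  · refine H.ext fun i => ?_
    by_cases hi : i = z
    · rw [hi, hneg, neg_mul]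
    · have h3 : i = r := Fin.ext (by
        have h4 : (i : ℕ) ≠ z := fun h => hi (Fin.ext h)
        have := i.2
        omega)
      have h5 : s = z := Fin.ext (by omega)
      rw [h3, neg_mul, H.col_last (j := r) (by omega), neg_zero, hr, ← hπ, ← hmul, h5, hzh, hf0]
  · intro i hi
    have h5 : s = z := Fin.ext (by omega)
    by_cases h6 : i = z
    · rw [h6, ← h5, ← hr, h5] at hi
      exact hrz hi
    · have h3 : i = t := Fin.ext (by
        have h4 : (i : ℕ) ≠ z := fun h => h6 (Fin.ext h)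
        have := i.2
        omega)
      rw [h3, hπt] at hi
      exact h6 (by rw [h3, ← hi])

end ring

/-! ### determinants of unipotent maps -/

theorem pow_eq_one_of_nilpotent {K V : Type*} [Field K] [AddCommGroup V] [Module K V] {p : ℕ} [hp : Fact p.Prime]
    [CharP K p] (g : V →ₗ[K] V) {k : ℕ} (h : (g - 1) ^ k = 0) : g ^ p ^ k = 1 := by
  have : CharP (V →ₗ[K] V) p ∨ Subsingleton V := by
    rcases subsingleton_or_nontrivial V with h | h
    · exact Or.inr h
    · left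
      exact charP_of_injective_algebraMap (algebraMap K (Module.End K V)).injective p
  rcases this with hc | hs
  · have := hc
    have h1 : g = 1 + (g - 1) := by abel
    have h2 : Commute (1 : V →ₗ[K] V) (g - 1) := Commute.one_left _
    have h3 : (1 + (g - 1)) ^ p ^ k = 1 ^ p ^ k + (g - 1) ^ p ^ k := add_pow_char_pow_of_commute p k h2
    rw [h1, h3, one_pow]
    have h4 : (g - 1) ^ p ^ k = 0 := by
      have hk : k ≤ p ^ k := (Nat.lt_pow_self hp.out.one_lt).le
      rw [← Nat.sub_add_cancel hk, pow_add, h, mul_zero]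
    rw [h4, add_zero]
  · ext x
    exact Subsingleton.elim _ _

theorem det_one_add {K V : Type*} [Field K] [Finite K] [AddCommGroup V] [Module K V] {h : R K V}
    (hn : IsNilpotent h) : LinearMap.det (1 + h : R K V) = 1 := by
  obtain ⟨k, hk⟩ := hn
  obtain ⟨p, hp⟩ := CharP.exists K
  have := hp
  have : Fact p.Prime := ⟨CharP.char_is_prime K p⟩
  have h1 := pow_eq_one_of_nilpotent (p := p) (k := k) (1 + h : R K V) (by rw [add_sub_cancel_left]; exact hk)
  have h2 := congrArg LinearMap.det h1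
  rw [map_pow, map_one] at h2
  have h3 : (LinearMap.det (1 + h : R K V)) ^ (p ^ k * 1) = 1 := by rw [mul_one]; exact h2
  have h4 := (ExpChar.pow_prime_pow_mul_eq_one_iff p k 1 (LinearMap.det (1 + h : R K V))).mp h3
  simpa using h4

/-! ### decompositions and matrix units -/

section dec

variable {K : Type u} [Field K] {V : Type v} [AddCommGroup V] [Module K V] {k d : ℕ}

/-- coordinates of the blocks -/
structure Dec (e : Fin k → R K V) (inc : Fin k → (Fin d → K) →ₗ[K] V) (prj : Fin k → V →ₗ[K] (Fin d → K)) : Prop where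
  ip : ∀ i, inc i ∘ₗ prj i = e i
  pi : ∀ i, prj i ∘ₗ inc i = LinearMap.id
  pij : ∀ i j, i ≠ j → prj i ∘ₗ inc j = 0
  sum : ∑ i, e i = 1

theorem exists_dec [Module.Finite K V] {e : Fin k → R K V} (he : CompleteOrthogonalIdempotents e)
    (hd : ∀ i, Module.finrank K (LinearMap.range (e i)) = d) :
    ∃ (inc : Fin k → (Fin d → K) →ₗ[K] V) (prj : Fin k → V →ₗ[K] (Fin d → K)), Dec e inc prj := by
  have u : ∀ i, LinearMap.range (e i) ≃ₗ[K] (Fin d → K) := fun i =>
    LinearEquiv.ofFinrankEq _ _ (by rw [hd, Module.finrank_fin_fun])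
  have hidem : ∀ i v, e i (e i v) = e i v := fun i v => by
    have := congrArg (fun T : R K V => T v) (he.idem i)
    simpa using this
  have hfix : ∀ i, ∀ y : LinearMap.range (e i), e i y = y := by
    rintro i ⟨_, v, rfl⟩
    exact hidem i v
  refine ⟨fun i => (LinearMap.range (e i)).subtype ∘ₗ (u i).symm.toLinearMap,
    fun i => (u i).toLinearMap ∘ₗ (e i).rangeRestrict, ?_, ?_, ?_, he.complete⟩
  · intro i
    ext v
    simp
  · intro i
    apply LinearMap.ext
    intro w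
    have : (e i).rangeRestrict ((u i).symm w) = (u i).symm w := Subtype.ext (hfix i _)
    simp only [LinearMap.comp_apply, LinearEquiv.coe_coe, Submodule.subtype_apply, LinearMap.id_apply]
    rw [this, LinearEquiv.apply_symm_apply]
  · intro i j hij
    apply LinearMap.ext
    intro w
    have h0 : e i ((u j).symm w) = 0 := by
      rw [← hfix j]
      have := congrArg (fun T : R K V => T ((u j).symm w)) (he.ortho hij)
      simpa using this
    have : (e i).rangeRestrict ((u j).symm w) = 0 := Subtype.ext h0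
    simp only [LinearMap.comp_apply, LinearEquiv.coe_coe, Submodule.subtype_apply, LinearMap.zero_apply]
    rw [this, map_zero]

variable {e : Fin k → R K V} {inc : Fin k → (Fin d → K) →ₗ[K] V} {prj : Fin k → V →ₗ[K] (Fin d → K)}

/-- matrix units with coefficients in `M_d(K)` -/
noncomputable def E (inc : Fin k → (Fin d → K) →ₗ[K] V) (prj : Fin k → V →ₗ[K] (Fin d → K)) (i j : Fin k)
    (T : Matrix (Fin d) (Fin d) K) : R K V := inc i ∘ₗ Matrix.toLin' T ∘ₗ prj j

theorem Dec.e_eq (D : Dec e inc prj) (i : Fin k) : E inc prj i i 1 = e i := by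
  rw [E, Matrix.toLin'_one, LinearMap.id_comp, D.ip]

theorem Dec.mul (D : Dec e inc prj) (i j l : Fin k) (S T : Matrix (Fin d) (Fin d) K) :
    E inc prj i j S * E inc prj j l T = E inc prj i l (S * T) := by
  apply LinearMap.ext
  intro v
  have h1 := congrArg (fun f : (Fin d → K) →ₗ[K] (Fin d → K) => f (Matrix.toLin' T (prj l v))) (D.pi j)
  simp only [LinearMap.comp_apply, LinearMap.id_apply] at h1
  simp only [E, Module.End.mul_apply, LinearMap.comp_apply, Matrix.toLin'_mul]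
  rw [h1]

theorem Dec.mul_ne (D : Dec e inc prj) (i : Fin k) {j j' : Fin k} (hj : j ≠ j') (l : Fin k) (S T : Matrix (Fin d) (Fin d) K) :
    E inc prj i j S * E inc prj j' l T = 0 := by
  apply LinearMap.ext
  intro v
  have h1 := congrArg (fun f : (Fin d → K) →ₗ[K] (Fin d → K) => f (Matrix.toLin' T (prj l v))) (D.pij j j' hj)
  simp only [LinearMap.comp_apply, LinearMap.zero_apply] at h1
  simp only [E, Module.End.mul_apply, LinearMap.comp_apply, LinearMap.zero_apply]
  rw [h1, map_zero, map_zero]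

theorem E_add (i j : Fin k) (S T : Matrix (Fin d) (Fin d) K) :
    E inc prj i j (S + T) = E inc prj i j S + E inc prj i j T := by
  apply LinearMap.ext
  intro v
  simp [E]

theorem E_neg (i j : Fin k) (T : Matrix (Fin d) (Fin d) K) :
    E inc prj i j (-T) = - E inc prj i j T := by
  apply LinearMap.ext
  intro v
  simp [E]

theorem E_zero (i j : Fin k) : E inc prj i j 0 = 0 := by
  apply LinearMap.ext
  intro v
  simp [E]

theorem Dec.inj (D : Dec e inc prj) (i j : Fin k) {S T : Matrix (Fin d) (Fin d) K}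
    (h : E inc prj i j S = E inc prj i j T) : S = T := by
  apply Matrix.toLin'.injective
  apply LinearMap.ext
  intro w
  have hpi : ∀ (i : Fin k) (w : Fin d → K), prj i (inc i w) = w := by
    intro i w
    exact congrArg (fun f : (Fin d → K) →ₗ[K] (Fin d → K) => f w) (D.pi i)
  have h1 := congrArg (fun f : R K V => prj i (f (inc j w))) h
  simp only [E, LinearMap.comp_apply] at h1
  rwa [hpi, hpi, hpi] at h1

theorem Dec.block (D : Dec e inc prj) (i j : Fin k) (Z : R K V) :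
    e i * Z * e j = E inc prj i j (LinearMap.toMatrix' (prj i ∘ₗ Z ∘ₗ inc j)) := by
  rw [E, Matrix.toLin'_toMatrix', ← D.ip, ← D.ip]
  rfl

/-- the shift with first coefficient `T` -/
noncomputable def sh (inc : Fin k → (Fin d → K) →ₗ[K] V) (prj : Fin k → V →ₗ[K] (Fin d → K))
    (T : Matrix (Fin d) (Fin d) K) : R K V :=
  ∑ j : Fin k, if hj : (j : ℕ) + 1 < k then E inc prj ⟨j + 1, hj⟩ j (if (j : ℕ) = 0 then T else 1) else 0

theorem Dec.e_mul (D : Dec e inc prj) (i j l : Fin k) (T : Matrix (Fin d) (Fin d) K) :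
    e i * E inc prj j l T = if i = j then E inc prj j l T else 0 := by
  rw [← D.e_eq]
  by_cases hij : i = j
  · rw [if_pos hij, hij, D.mul, one_mul]
  · rw [if_neg hij, D.mul_ne i hij]

theorem Dec.mul_e (D : Dec e inc prj) (i j l : Fin k) (T : Matrix (Fin d) (Fin d) K) :
    E inc prj j l T * e i = if l = i then E inc prj j l T else 0 := by
  rw [← D.e_eq]
  by_cases hij : l = i
  · rw [if_pos hij, hij, D.mul, mul_one]
  · rw [if_neg hij, D.mul_ne j hij]

theorem Dec.blk (D : Dec e inc prj) (T : Matrix (Fin d) (Fin d) K) (i j : Fin k) :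
    e i * sh inc prj T * e j = if (i : ℕ) = j + 1 then E inc prj i j (if (j : ℕ) = 0 then T else 1) else 0 := by
  rw [sh, Finset.mul_sum, Finset.sum_mul, Finset.sum_eq_single j]
  · by_cases hj : (j : ℕ) + 1 < k
    · rw [dif_pos hj, D.e_mul]
      by_cases hij : (i : ℕ) = j + 1
      · have h1 : i = ⟨j + 1, hj⟩ := Fin.ext hij
        rw [if_pos h1, if_pos hij, D.mul_e, if_pos rfl, ← h1]
      · rw [if_neg (fun h => hij (congrArg (fun i : Fin k => (i : ℕ)) h)), if_neg hij, zero_mul]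
    · rw [dif_neg hj, mul_zero, zero_mul, if_neg]
      have := i.2
      omega
  · intro l _ hl
    by_cases hj : (l : ℕ) + 1 < k
    · rw [dif_pos hj, mul_assoc, D.mul_e, if_neg hl, mul_zero]
    · rw [dif_neg hj, mul_zero, zero_mul]
  · intro h
    exact absurd (Finset.mem_univ _) h

theorem Dec.ne_zero (D : Dec e inc prj) (i j : Fin k) {T : Matrix (Fin d) (Fin d) K} (hT : T ≠ 0) :
    E inc prj i j T ≠ 0 := fun h => hT (D.inj i j (by rw [h, E_zero]))

theorem Dec.shift (D : Dec e inc prj) (hd : 1 ≤ d) {T : Matrix (Fin d) (Fin d) K} (hT : T ≠ 0) :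
    Shift e (sh inc prj T) where
  idem i := by rw [← D.e_eq, D.mul, one_mul]
  orth i j hij := by rw [← D.e_eq, ← D.e_eq, D.mul_ne i hij]
  sum := D.sum
  ne i := by
    have : Nonempty (Fin d) := ⟨⟨0, hd⟩⟩
    rw [← D.e_eq]
    exact D.ne_zero i i one_ne_zero
  h0 i j hij := by rw [D.blk, if_neg hij]
  h1 i j hij := by
    have : Nonempty (Fin d) := ⟨⟨0, hd⟩⟩
    rw [D.blk, if_pos hij]
    refine D.ne_zero i j ?_
    split
    · exact hT
    · exact one_ne_zero
  h2 i j l hij hjl := by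
    have : Nonempty (Fin d) := ⟨⟨0, hd⟩⟩
    have hjj : e j = e j * e j := by rw [← D.e_eq, D.mul, one_mul]
    have h1 : e i * sh inc prj T * e j * sh inc prj T * e l =
        (e i * sh inc prj T * e j) * (e j * sh inc prj T * e l) := by
      conv_lhs => rw [hjj]
      simp only [mul_assoc]
    rw [h1, D.blk, D.blk, if_pos hij, if_pos hjl, D.mul]
    refine D.ne_zero i l ?_
    rw [if_neg (show ¬ (j : ℕ) = 0 by omega), one_mul]
    split
    · exact hT
    · exact one_ne_zero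

/-- **rigidity** -/
theorem Dec.rigid (D : Dec e inc prj) (hk : 2 ≤ k) {f : R K V → R K V} (hadd : ∀ X Y, f (X + Y) = f X + f Y)
    (hmul : ∀ X Y, f (X * Y) = f X * f Y) (he : ∀ i, f (e i) = e i) {X Y : Matrix (Fin d) (Fin d) K}
    (h1 : f (sh inc prj 1) = sh inc prj 1) (hX : f (sh inc prj X) = sh inc prj X) (hY : f (sh inc prj Y) = sh inc prj Y)
    (hgen : Subring.closure {X, Y} = ⊤) (Z : R K V) : f Z = Z := by
  have hf0 : f 0 = 0 := by
    have := hadd 0 0
    rw [add_zero] at this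
    exact left_eq_add.1 this
  have hneg : ∀ Z, f (-Z) = - f Z := by
    intro Z
    have h2 := hadd (-Z) Z
    rw [neg_add_cancel, hf0] at h2
    exact eq_neg_of_add_eq_zero_left h2.symm
  have hblk : ∀ (T : Matrix (Fin d) (Fin d) K) (i j : Fin k), f (sh inc prj T) = sh inc prj T → (i : ℕ) = j + 1 →
      f (E inc prj i j (if (j : ℕ) = 0 then T else 1)) = E inc prj i j (if (j : ℕ) = 0 then T else 1) := by
    intro T i j hT hij
    have h2 := D.blk T i j
    rw [if_pos hij] at h2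
    rw [← h2, hmul, hmul, he, he, hT]
  obtain ⟨z, hz⟩ : ∃ z : Fin k, (z : ℕ) = 0 := ⟨⟨0, by omega⟩, rfl⟩
  -- the column of `z`
  have hcol : ∀ n : ℕ, ∀ i : Fin k, (i : ℕ) = n → f (E inc prj i z 1) = E inc prj i z 1 := by
    intro n
    induction n with
    | zero =>
      intro i hi
      have : i = z := Fin.ext (by rw [hi, hz])
      rw [this, D.e_eq, he]
    | succ n ih =>
      intro i hi
      have hn : n < k := by have := i.2; omega
      have h2 : E inc prj i z 1 = E inc prj i ⟨n, hn⟩ 1 * E inc prj ⟨n, hn⟩ z 1 := by rw [D.mul, one_mul]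
      have h3 := hblk 1 i ⟨n, hn⟩ h1 hi
      simp only [ite_self] at h3
      rw [h2, hmul, h3, ih ⟨n, hn⟩ rfl]
  have hrow : ∀ j : Fin k, f (E inc prj z j 1) = E inc prj z j 1 := by
    intro j
    have h2 : E inc prj z j 1 = E inc prj z j 1 * (E inc prj j z 1 * E inc prj z j 1) := by
      rw [D.mul, D.mul, one_mul, one_mul]
    calc f (E inc prj z j 1) = f (E inc prj z j 1 * e j) := by rw [D.mul_e, if_pos rfl]
      _ = f (E inc prj z j 1) * e j := by rw [hmul, he]
      _ = f (E inc prj z j 1) * (E inc prj j z 1 * E inc prj z j 1) := by rw [D.mul, one_mul, D.e_eq]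
      _ = f (E inc prj z j 1) * f (E inc prj j z 1) * E inc prj z j 1 := by rw [hcol j j rfl, mul_assoc]
      _ = E inc prj z j 1 := by rw [← hmul, D.mul, one_mul, D.e_eq, he, D.e_mul, if_pos rfl]
  obtain ⟨o, ho⟩ : ∃ o : Fin k, (o : ℕ) = z + 1 := ⟨⟨1, by omega⟩, by rw [hz]⟩
  have hcorner : ∀ T : Matrix (Fin d) (Fin d) K, f (sh inc prj T) = sh inc prj T →
      f (E inc prj z z T) = E inc prj z z T := by
    intro T hT
    have h2 := hblk T o z hT ho
    rw [if_pos hz] at h2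
    have h3 : E inc prj z z T = E inc prj z o 1 * E inc prj o z T := by rw [D.mul, one_mul]
    rw [h3, hmul, hrow, h2]
  let G : Subring (Matrix (Fin d) (Fin d) K) :=
    { carrier := {T | f (E inc prj z z T) = E inc prj z z T}
      mul_mem' := by
        intro S T hS hT
        change f (E inc prj z z (S * T)) = E inc prj z z (S * T)
        rw [← D.mul z z z, hmul]
        rw [show f (E inc prj z z S) = _ from hS, show f (E inc prj z z T) = _ from hT]
      one_mem' := by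
        change f (E inc prj z z 1) = E inc prj z z 1
        rw [D.e_eq, he]
      add_mem' := by
        intro S T hS hT
        change f (E inc prj z z (S + T)) = E inc prj z z (S + T)
        rw [E_add, hadd]
        rw [show f (E inc prj z z S) = _ from hS, show f (E inc prj z z T) = _ from hT]
      zero_mem' := by
        change f (E inc prj z z 0) = E inc prj z z 0
        rw [E_zero, hf0]
      neg_mem' := by
        intro S hS
        change f (E inc prj z z (-S)) = E inc prj z z (-S)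
        rw [E_neg, hneg]
        rw [show f (E inc prj z z S) = _ from hS] }
  have hG : G = ⊤ := by
    rw [eq_top_iff, ← hgen, Subring.closure_le]
    rintro T (rfl | rfl)
    · exact hcorner _ hX
    · exact hcorner _ hY
  have hall : ∀ (i j : Fin k) (T : Matrix (Fin d) (Fin d) K), f (E inc prj i j T) = E inc prj i j T := by
    intro i j T
    have h2 : f (E inc prj z z T) = E inc prj z z T := by
      have : T ∈ G := by rw [hG]; trivial
      exact this
    have h3 : E inc prj i j T = E inc prj i z 1 * E inc prj z z T * E inc prj z j 1 := by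
      rw [D.mul, D.mul, one_mul, mul_one]
    rw [h3, hmul, hmul, h2, hrow, hcol i i rfl]
  -- all of `R`
  have hsumf : ∀ (s : Finset (Fin k)) (g : Fin k → R K V), f (∑ i ∈ s, g i) = ∑ i ∈ s, f (g i) := by
    intro s g
    classical
    induction s using Finset.induction_on with
    | empty => simp [hf0]
    | insert a s ha ih => rw [Finset.sum_insert ha, Finset.sum_insert ha, hadd, ih]
  have hZ : Z = ∑ i, ∑ j, e i * Z * e j := by
    calc Z = (∑ i, e i) * Z * ∑ j, e j := by rw [D.sum, one_mul, mul_one]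
      _ = ∑ i, ∑ j, e i * Z * e j := by
        rw [Finset.sum_mul, Finset.sum_mul]
        refine Finset.sum_congr rfl fun i _ => ?_
        rw [Finset.mul_sum]
  rw [hZ, hsumf]
  refine Finset.sum_congr rfl fun i _ => ?_
  rw [hsumf]
  refine Finset.sum_congr rfl fun j _ => ?_
  rw [D.block, hall]

/-- **no anti-automorphisms** -/
theorem Dec.no_anti (D : Dec e inc prj) {z o : Fin k} {f : R K V → R K V}
    (hmul : ∀ X Y, f (X * Y) = f Y * f X) (hz : f (e z) = e o) (ho : f (e o) = e z) {X Y : Matrix (Fin d) (Fin d) K}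
    (h1 : f (E inc prj o z 1) = - E inc prj o z 1) (hX : f (E inc prj o z X) = - E inc prj o z X)
    (hY : f (E inc prj o z Y) = - E inc prj o z Y) (hXY : f (E inc prj o z (X * Y)) = - E inc prj o z (X * Y)) :
    X * Y = Y * X := by
  have hb : f (E inc prj z o 1) = - E inc prj z o 1 := by
    have h2 : f (E inc prj z o 1) * E inc prj o z 1 = - e z := by
      have h3 : f (E inc prj o z 1 * E inc prj z o 1) = e z := by rw [D.mul, one_mul, D.e_eq, ho]
      rw [hmul, h1, mul_neg] at h3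
      rw [← h3, neg_neg]
    have h4 : f (E inc prj z o 1) = f (E inc prj z o 1) * e o := by
      have h5 : f (e z * E inc prj z o 1) = f (E inc prj z o 1) := by rw [D.e_mul, if_pos rfl]
      rw [hmul, hz] at h5
      exact h5.symm
    calc f (E inc prj z o 1) = f (E inc prj z o 1) * (E inc prj o z 1 * E inc prj z o 1) := by
          rw [D.mul, one_mul, D.e_eq]
          exact h4
      _ = - e z * E inc prj z o 1 := by rw [← mul_assoc, h2]
      _ = - E inc prj z o 1 := by rw [neg_mul, D.e_mul, if_pos rfl]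
  have h3 : E inc prj o z (X * Y) = E inc prj o z X * E inc prj z o 1 * E inc prj o z Y := by
    rw [D.mul, D.mul, mul_one]
  have h4 : f (E inc prj o z (X * Y)) = - E inc prj o z (Y * X) := by
    rw [h3, hmul, hmul, hX, hY, hb, neg_mul_neg, neg_mul, ← mul_assoc, D.mul, D.mul, mul_one]
  rw [h4] at hXY
  exact (D.inj o z (neg_injective hXY)).symm

end dec

/-! ### generators of `M_d(K)` -/

theorem exists_gen (K : Type u) [Field K] [Finite K] {d : ℕ} (hd : 1 ≤ d) :
    ∃ X Y : Matrix (Fin d) (Fin d) K, X ≠ 0 ∧ Y ≠ 0 ∧ X * Y ≠ 0 ∧ Subring.closure {X, Y} = ⊤ ∧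
      (2 ≤ d → X * Y ≠ Y * X) := by
  obtain ⟨n, rfl⟩ : ∃ n, d = n + 1 := ⟨d - 1, by omega⟩
  obtain ⟨γ, hγ⟩ := IsCyclic.exists_generator (α := Kˣ)
  let P : Matrix (Fin (n + 1)) (Fin (n + 1)) K := fun i j => if i = j + 1 then 1 else 0
  have hP : ∀ (i j : Fin (n + 1)) (c : K), P * Matrix.single i j c = Matrix.single (i + 1) j c := by
    intro i j c
    ext a b
    rw [Matrix.mul_apply, Finset.sum_eq_single i]
    · simp only [P, Matrix.single_apply]
      by_cases ha : a = i + 1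
      · simp [ha]
      · simp [ha, Ne.symm ha]
    · intro l _ hl
      simp [Ne.symm hl]
    · intro h
      exact absurd (Finset.mem_univ _) h
  have hP' : ∀ (i j : Fin (n + 1)) (c : K), Matrix.single i (j + 1) c * P = Matrix.single i j c := by
    intro i j c
    ext a b
    rw [Matrix.mul_apply, Finset.sum_eq_single (j + 1)]
    · simp only [P, Matrix.single_apply, add_left_inj]
      by_cases ha : i = a <;> by_cases hb : j = b <;> simp [ha, hb]
    · intro l _ hl
      simp [Ne.symm hl]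
    · intro h
      exact absurd (Finset.mem_univ _) h
  have hs0 : ∀ (i j : Fin (n + 1)) (c : K), c ≠ 0 → Matrix.single i j c ≠ 0 := by
    intro i j c hc h
    apply hc
    have := congrFun (congrFun h i) j
    simpa using this
  have hP1 : P 1 0 = 1 := by simp [P]
  refine ⟨P, Matrix.single 0 0 (γ : K), ?_, hs0 0 0 _ γ.ne_zero, ?_, ?_, ?_⟩
  · intro h
    rw [h] at hP1
    simp at hP1
  · rw [hP]
    exact hs0 _ _ _ γ.ne_zero
  · rw [eq_top_iff]
    set G := Subring.closure {P, Matrix.single (0 : Fin (n + 1)) (0 : Fin (n + 1)) (γ : K)} with hG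
    have hPG : P ∈ G := Subring.subset_closure (Or.inl rfl)
    have hSG : Matrix.single (0 : Fin (n + 1)) (0 : Fin (n + 1)) (γ : K) ∈ G := Subring.subset_closure (Or.inr rfl)
    -- all matrix units times γ
    have h1 : ∀ i : Fin (n + 1), Matrix.single i (0 : Fin (n + 1)) (γ : K) ∈ G := by
      intro i
      induction i using Fin.induction with
      | zero => exact hSG
      | succ i ih =>
        have := G.mul_mem hPG ih
        rw [hP] at this
        have h2 : (i.castSucc + 1 : Fin (n + 1)) = i.succ := by simp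
        rwa [h2] at this
    have h3 : ∀ i j : Fin (n + 1), Matrix.single i j (γ : K) ∈ G := by
      intro i j
      induction j using Fin.reverseInduction with
      | last =>
        have h2 := G.mul_mem (h1 i) hPG
        have h4 : (0 : Fin (n + 1)) = Fin.last n + 1 := by simp
        rw [h4, hP'] at h2
        exact h2
      | cast j ih =>
        have h2 := G.mul_mem ih hPG
        have h4 : j.succ = j.castSucc + 1 := by simp
        rw [h4, hP'] at h2
        exact h2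
    have h4 : ∀ m : ℕ, ∀ i j : Fin (n + 1), Matrix.single i j ((γ : K) ^ (m + 1)) ∈ G := by
      intro m
      induction m with
      | zero => intro i j; simpa using h3 i j
      | succ m ih =>
        intro i j
        have := G.mul_mem (ih i j) (h3 j j)
        rwa [Matrix.single_mul_single_same, ← pow_succ] at this
    have h5 : ∀ (i j : Fin (n + 1)) (c : K), Matrix.single i j c ∈ G := by
      intro i j c
      by_cases hc : c = 0
      · rw [hc, Matrix.single_zero]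
        exact G.zero_mem
      · obtain ⟨m, hm⟩ : ∃ m : ℕ, γ ^ m = Units.mk0 c hc :=
          (mem_powers_iff_mem_zpowers).2 (hγ (Units.mk0 c hc))
        have h6 : (γ : K) ^ m = c := congrArg Units.val hm
        have h7 : (γ : K) ^ (m + (Nat.card Kˣ - 1) + 1) = c := by
          have : 0 < Nat.card Kˣ := Nat.card_pos
          have h8 : m + (Nat.card Kˣ - 1) + 1 = m + Nat.card Kˣ := by omega
          have h9 : (γ : K) ^ Nat.card Kˣ = 1 := by
            rw [← Units.val_pow_eq_pow_val, pow_card_eq_one', Units.val_one]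
          rw [h8, pow_add, h9, mul_one, h6]
        rw [← h7]
        exact h4 _ i j
    intro Z _
    rw [Matrix.matrix_eq_sum_single Z]
    exact G.sum_mem fun i _ => G.sum_mem fun j _ => h5 i j _
  · intro h2 h
    rw [hP] at h
    have h3 : Matrix.single (0 : Fin (n + 1)) (0 : Fin (n + 1)) (γ : K) * P = Matrix.single 0 (-1) (γ : K) := by
      have := hP' 0 (-1) (γ : K)
      rwa [neg_add_cancel] at this
    rw [h3] at h
    have h4 := congrFun (congrFun h 1) 0
    have h01 : (0 : Fin (n + 1)) ≠ 1 := by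
      intro h5
      have := congrArg Fin.val h5
      rw [Fin.val_one'] at this
      simp at this
      omega
    simp [h01] at h4

/-! ### the statement -/

section step

variable {K : Type u} [Field K] {V : Type v} [AddCommGroup V] [Module K V] {k : ℕ}

theorem map_one_of {f : Equiv.Perm (R K V)} (h : f ∈ RA K V) : f 1 = 1 := by
  obtain ⟨Z, hZ⟩ := f.surjective 1
  rcases h.2 with h | h
  · calc f 1 = f 1 * f Z := by rw [hZ, mul_one]
      _ = 1 := by rw [← h, one_mul, hZ]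
  · calc f 1 = f 1 * f Z := by rw [hZ, mul_one]
      _ = 1 := by rw [← h, mul_one, hZ]

theorem conj_apply (x : (R K V)ˣ) (f : Equiv.Perm (R K V)) (Z : R K V) :
    (cj K V x * f * (cj K V x)⁻¹) Z = x * f ((x⁻¹ : (R K V)ˣ) * Z * x) * (x⁻¹ : (R K V)ˣ) := rfl

theorem step_aut {e : Fin k → R K V} {h : R K V} (H : Shift e h) {x : (R K V)ˣ} (hx : (x : R K V) = 1 + h)
    {f : Equiv.Perm (R K V)} (hadd : ∀ X Y, f (X + Y) = f X + f Y) (hmul : ∀ X Y, f (X * Y) = f X * f Y) (h1 : f 1 = 1)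
    {π π' : Equiv.Perm (Fin k)} (hπ : ∀ i, f (e i) = e (π i))
    (hπ' : ∀ i, (cj K V x * f * (cj K V x)⁻¹) (e i) = e (π' i)) : (∀ i, f (e i) = e i) ∧ f h = h := by
  have e1 : f ((x⁻¹ : (R K V)ˣ) : R K V) * f (x : R K V) = 1 := by rw [← hmul, Units.inv_mul, h1]
  have e2 : f (x : R K V) * f ((x⁻¹ : (R K V)ˣ) : R K V) = 1 := by rw [← hmul, Units.mul_inv, h1]
  refine H.aut f.injective hadd hmul h1 hπ (ρ := π.symm.trans π') (m := x * f ((x⁻¹ : (R K V)ˣ) : R K V)) ?_ ?_
  · rw [← hx, mul_assoc, e1, mul_one]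
  · intro j
    obtain ⟨i, rfl⟩ := π.surjective j
    have h2 := hπ' i
    rw [conj_apply, hmul, hmul, hπ] at h2
    have h3 : π.symm.trans π' (π i) = π' i := by simp
    rw [h3, ← h2]
    have h4 : (x : R K V) * (f ((x⁻¹ : (R K V)ˣ) : R K V) * e (π i) * f (x : R K V)) * ((x⁻¹ : (R K V)ˣ) : R K V) *
        ((x : R K V) * f ((x⁻¹ : (R K V)ˣ) : R K V)) = (x : R K V) * (f ((x⁻¹ : (R K V)ˣ) : R K V) * e (π i)) *
        (f (x : R K V) * ((((x⁻¹ : (R K V)ˣ) : R K V) * (x : R K V)) * f ((x⁻¹ : (R K V)ˣ) : R K V))) := by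
      simp only [mul_assoc]
    rw [h4, Units.inv_mul, one_mul, e2, mul_one, mul_assoc]

theorem step_anti {e : Fin k → R K V} {h : R K V} (H : Shift e h) {x : (R K V)ˣ} (hx : (x : R K V) = 1 + h)
    {f : Equiv.Perm (R K V)} (hadd : ∀ X Y, f (X + Y) = f X + f Y) (hmul : ∀ X Y, f (X * Y) = f Y * f X) (h1 : f 1 = 1)
    {π π' : Equiv.Perm (Fin k)} (hπ : ∀ i, f (e i) = e (π i))
    (hπ' : ∀ i, (cj K V x * f * (cj K V x)⁻¹) (e i) = e (π' i)) (hk : 2 ≤ k) :
    k = 2 ∧ f h = - h ∧ ∀ i, π i ≠ i := by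
  have e1 : f ((x⁻¹ : (R K V)ˣ) : R K V) * f (x : R K V) = 1 := by rw [← hmul, Units.mul_inv, h1]
  refine H.anti hadd f.injective hmul h1 hπ (ρ := π.symm.trans π') (m := x * f (x : R K V)) (by rw [← hx]) ?_ hk
  intro j
  obtain ⟨i, rfl⟩ := π.surjective j
  have h2 := hπ' i
  rw [conj_apply, hmul, hmul, hπ] at h2
  have h3 : π.symm.trans π' (π i) = π' i := by simp
  rw [h3, ← h2]
  have h4 : (x : R K V) * (f (x : R K V) * (e (π i) * f ((x⁻¹ : (R K V)ˣ) : R K V))) * ((x⁻¹ : (R K V)ˣ) : R K V) *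
      ((x : R K V) * f (x : R K V)) = (x : R K V) * f (x : R K V) * e (π i) *
      (f ((x⁻¹ : (R K V)ˣ) : R K V) * ((((x⁻¹ : (R K V)ˣ) : R K V) * (x : R K V)) * f (x : R K V))) := by
    simp only [mul_assoc]
  rw [h4, Units.inv_mul, one_mul, e1, mul_one]

end step

theorem finrank_eq {K : Type u} [Field K] {V : Type v} [AddCommGroup V] [Module K V] {k d : ℕ}
    {e : Fin k → R K V} {inc : Fin k → (Fin d → K) →ₗ[K] V} {prj : Fin k → V →ₗ[K] (Fin d → K)} (D : Dec e inc prj) :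
    Module.finrank K V = k * d := by
  classical
  have hpi : ∀ (i : Fin k) (w : Fin d → K), prj i (inc i w) = w := by
    intro i w
    exact congrArg (fun f : (Fin d → K) →ₗ[K] (Fin d → K) => f w) (D.pi i)
  have hpij : ∀ (i j : Fin k) (w : Fin d → K), i ≠ j → prj i (inc j w) = 0 := by
    intro i j w h
    exact congrArg (fun f : (Fin d → K) →ₗ[K] (Fin d → K) => f w) (D.pij i j h)
  have hip : ∀ (i : Fin k) (v : V), inc i (prj i v) = e i v := by
    intro i v
    exact congrArg (fun f : R K V => f v) (D.ip i)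
  let φ : V ≃ₗ[K] (Fin k → Fin d → K) :=
    { toFun := fun v i => prj i v
      map_add' := fun v w => by ext i; simp
      map_smul' := fun a v => by ext i; simp
      invFun := fun w => ∑ i, inc i (w i)
      left_inv := fun v => by
        simp only [hip]
        have := congrArg (fun f : R K V => f v) D.sum
        simpa using this
      right_inv := fun w => by
        funext i
        simp only [map_sum]
        rw [Finset.sum_eq_single i]
        · exact hpi i _
        · intro j _ hj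
          exact hpij i j _ hj.symm
        · intro h
          exact absurd (Finset.mem_univ _) h }
  rw [φ.finrank_eq, Module.finrank_pi_fintype]
  simp

/-- **stabilizers of decompositions** -/
theorem stmtC2 : StmtC2.{u, v} := by
  intro K _ _ V _ _ _ S hS hS2 _ k d e hk hd he hrk hperm
  obtain ⟨inc, prj, D⟩ := exists_dec he hrk
  obtain ⟨X, Y, hX, hY, hXY, hgen, hne⟩ := exists_gen K hd
  have : Nonempty (Fin d) := ⟨⟨0, hd⟩⟩
  obtain ⟨T, hT⟩ : ∃ T : Fin 4 → Matrix (Fin d) (Fin d) K, T = ![1, X, Y, X * Y] := ⟨_, rfl⟩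
  have hT0 : ∀ i, T i ≠ 0 := by
    intro i
    rw [hT]
    fin_cases i
    · exact one_ne_zero
    · exact hX
    · exact hY
    · exact hXY
  have hsh : ∀ i, Shift e (sh inc prj (T i)) := fun i => D.shift hd (hT0 i)
  have hu : ∀ i, ∃ x : (R K V)ˣ, (x : R K V) = 1 + sh inc prj (T i) := fun i =>
    ⟨(hsh i).isNilpotent.isUnit_one_add.unit, rfl⟩
  choose x hx using hu
  refine ⟨x, fun i => by rw [hx]; exact det_one_add (hsh i).isNilpotent, fun f hf hfx => ?_⟩
  have hRA := hS hf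
  have h1 := map_one_of hRA
  obtain ⟨π, hπ⟩ := hperm f hf
  have hπ' : ∀ i, ∃ π' : Equiv.Perm (Fin k), ∀ j, (cj K V (x i) * f * (cj K V (x i))⁻¹) (e j) = e (π' j) := fun i =>
    hperm _ (hfx i)
  have haut : (∀ X Y, f (X * Y) = f X * f Y) → f = 1 := by
    intro hmul
    have h2 : ∀ i, (∀ j, f (e j) = e j) ∧ f (sh inc prj (T i)) = sh inc prj (T i) := by
      intro i
      obtain ⟨π', h3⟩ := hπ' i
      exact step_aut (hsh i) (hx i) hRA.1 hmul h1 hπ h3
    apply Equiv.ext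
    intro Z
    refine D.rigid hk hRA.1 hmul (h2 0).1 (X := X) (Y := Y) ?_ ?_ ?_ hgen Z
    · have := (h2 0).2
      rw [hT] at this
      exact this
    · have := (h2 1).2
      rw [hT] at this
      exact this
    · have := (h2 2).2
      rw [hT] at this
      exact this
  by_cases hn2 : Module.finrank K V = 2
  · exact haut (hS2 hn2 hf).2
  rcases hRA.2 with hmul | hmul
  · exact haut hmul
  exfalso
  have h2 : ∀ i, k = 2 ∧ f (sh inc prj (T i)) = - sh inc prj (T i) ∧ ∀ j, π j ≠ j := by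
    intro i
    obtain ⟨π', h3⟩ := hπ' i
    exact step_anti (hsh i) (hx i) hRA.1 hmul h1 hπ h3 hk
  obtain ⟨hk2, -, hπne⟩ := h2 0
  subst hk2
  have hd2 : 2 ≤ d := by
    by_contra hcon
    have : d = 1 := by omega
    apply hn2
    rw [finrank_eq D, this]
  apply hne hd2
  -- the block
  have hsh1 : ∀ T : Matrix (Fin d) (Fin d) K, sh inc prj T = E inc prj 1 0 T := by
    intro T
    rw [sh, Fin.sum_univ_two]
    simp
  have hπ0 : π 0 = 1 := by
    have := hπne 0
    omega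
  have hπ1 : π 1 = 0 := by
    have := hπne 1
    omega
  have key : ∀ i, f (E inc prj 1 0 (T i)) = - E inc prj 1 0 (T i) := by
    intro i
    rw [← hsh1]
    exact (h2 i).2.1
  refine D.no_anti (z := 0) (o := 1) hmul (by rw [hπ, hπ0]) (by rw [hπ, hπ1]) ?_ ?_ ?_ ?_
  · have := key 0
    rw [hT] at this
    exact this
  · have := key 1
    rw [hT] at this
    exact this
  · have := key 2
    rw [hT] at this
    exact this
  · have := key 3
    rw [hT] at this
    exact this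

end Cfsg.Agent.H393.FC
end

-- part: H961/FC/Base
section
/-!
# S5764, L-C6mt: three elements of a minimal normal abelian subgroup with small centralizer (helper961)
-/

set_option autoImplicit false

namespace Cfsg.Agent.H961.FC

universe u

/-- `A` a minimal normal subgroup (abelian) of the solvable group `S`: some three elements of `A` have the same
centralizer in `S` as `A`. -/
theorem exists_three {P : Type u} [Group P] (S A : Subgroup P) [Finite S] (hS : Group.IsSolvable S) (hAS : A ≤ S)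
    (hab : ∀ f ∈ A, ∀ g ∈ A, f * g = g * f) (hn : ∀ g ∈ S, ∀ f ∈ A, g * f * g⁻¹ ∈ A)
    (hmin : ∀ B : Subgroup P, B ≤ A → (∀ g ∈ S, ∀ f ∈ B, g * f * g⁻¹ ∈ B) → B = ⊥ ∨ B = A) :
    ∃ v₁ ∈ A, ∃ v₂ ∈ A, ∃ v₃ ∈ A, ∀ f ∈ S, f * v₁ = v₁ * f → f * v₂ = v₂ * f → f * v₃ = v₃ * f →
      ∀ g ∈ A, f * g = g * f := by
  let N : Subgroup S := A.subgroupOf S
  have hN : N.Normal := ⟨fun f hf g => hn g g.2 f hf⟩
  let cg : CommGroup N :=
    { (inferInstance : Group N) with
      mul_comm := fun f g => Subtype.ext (Subtype.ext (hab _ f.2 _ g.2)) }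
  let φ : S →* MulAut N := MulAut.conjNormal
  have hφ : ∀ (s : S) (x : N), ((φ s x : N) : S) = s * x * s⁻¹ := fun s x => MulAut.conjNormal_apply s x
  let Q := φ.range
  let act : DistribMulAction Q (Additive N) :=
    { smul := fun q x => Additive.ofMul ((q : MulAut N) x.toMul)
      one_smul := fun _ => rfl
      mul_smul := fun _ _ _ => rfl
      smul_zero := fun q => map_one (q : MulAut N)
      smul_add := fun q x y => map_mul (q : MulAut N) x.toMul y.toMul }
  have hsm : ∀ (q : Q) (x : Additive N), q • x = Additive.ofMul ((q : MulAut N) x.toMul) := fun _ _ => rfl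
  have hfa : FaithfulSMul Q (Additive N) := ⟨fun {q q'} h => Subtype.ext (MulEquiv.ext fun x => h (Additive.ofMul x))⟩
  have hQ : Group.IsSolvable Q := Group.isSolvable_of_surjective (f := φ.rangeRestrict) φ.rangeRestrict_surjective
  have hcr : ∀ U : AddSubgroup (Additive N), (∀ a : Q, ∀ v ∈ U, a • v ∈ U) →
      ∃ W : AddSubgroup (Additive N), (∀ a : Q, ∀ w ∈ W, a • w ∈ W) ∧ U ⊓ W = ⊥ ∧ U ⊔ W = ⊤ := by
    intro U hU
    let B : Subgroup P := (AddSubgroup.toSubgroup' U).map (S.subtype.comp N.subtype)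
    have hmB : ∀ x : P, x ∈ B ↔ ∃ y : N, Additive.ofMul y ∈ U ∧ ((y : S) : P) = x := fun x => Iff.rfl
    have hB : B ≤ A := by
      intro x hx
      obtain ⟨y, -, rfl⟩ := (hmB x).1 hx
      exact y.2
    have hBn : ∀ g ∈ S, ∀ f ∈ B, g * f * g⁻¹ ∈ B := by
      intro g hg f hf
      obtain ⟨y, hy, rfl⟩ := (hmB f).1 hf
      rw [hmB]
      exact ⟨φ ⟨g, hg⟩ y, hU ⟨φ ⟨g, hg⟩, ⟨g, hg⟩, rfl⟩ _ hy, by rw [hφ]; rfl⟩
    rcases hmin B hB hBn with h | h
    · refine ⟨⊤, fun _ _ _ => trivial, ?_, ?_⟩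
      · rw [inf_top_eq, eq_bot_iff]
        intro x hx
        have h1 : (((x.toMul : N) : S) : P) ∈ B := (hmB _).2 ⟨x.toMul, hx, rfl⟩
        rw [h, Subgroup.mem_bot] at h1
        rw [AddSubgroup.mem_bot]
        have h2 : x.toMul = 1 := Subtype.ext (Subtype.ext h1)
        exact h2
      · exact sup_top_eq U
    · refine ⟨⊥, ?_, inf_bot_eq U, ?_⟩
      · intro a w hw
        rw [AddSubgroup.mem_bot] at hw ⊢
        rw [hw, smul_zero]
      · rw [sup_bot_eq, eq_top_iff]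
        intro x _
        have h1 : (((x.toMul : N) : S) : P) ∈ B := h ▸ (show (((x.toMul : N) : S) : P) ∈ A from x.toMul.2)
        obtain ⟨y, hy, hyx⟩ := (hmB _).1 h1
        have h2 : y = x.toMul := Subtype.ext (Subtype.ext hyx)
        rw [h2] at hy
        exact hy
  obtain ⟨v₁, v₂, v₃, hv⟩ := Cfsg.Agent.H578.base3 hQ hcr
  have key : ∀ (f : P) (hf : f ∈ S) (v : Additive N), f * ((v.toMul : N) : S) = ((v.toMul : N) : S) * f →
      (⟨φ ⟨f, hf⟩, ⟨f, hf⟩, rfl⟩ : Q) • v = v := by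
    intro f hf v h
    rw [hsm]
    have h2 : φ ⟨f, hf⟩ v.toMul = v.toMul := by
      apply Subtype.ext
      apply Subtype.ext
      rw [hφ]
      show f * (((v.toMul : N) : S) : P) * f⁻¹ = _
      rw [h, mul_inv_cancel_right]
    exact h2
  refine ⟨_, v₁.toMul.2, _, v₂.toMul.2, _, v₃.toMul.2, fun f hf h1 h2 h3 g hg => ?_⟩
  have h4 := hv _ (key f hf v₁ h1) (key f hf v₂ h2) (key f hf v₃ h3)
  have h5 : φ ⟨f, hf⟩ = 1 := congrArg Subtype.val h4
  have h6 := hφ ⟨f, hf⟩ ⟨⟨g, hAS hg⟩, hg⟩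
  rw [h5] at h6
  have h7 : g = f * g * f⁻¹ := congrArg Subtype.val h6
  conv_rhs => rw [h7]
  rw [inv_mul_cancel_right]

end Cfsg.Agent.H961.FC
end

-- part: H961/FC/C6Mt
section
/-!
# S5764, L-C6mt (helper961)

`C6Data S A r a`:
* `cent_inn` : an inner-diagonal automorphism centralizing `A` is in `A`;
* `five_of_lift`, `fiveB_of_lift` : (MT) if the elements of `A` lift to `SL(V)` (to isometries of determinant 1) and
  `C_S(A) ∩ S^x = 1`, then `Five S` (`FiveB b S`).
-/

set_option autoImplicit false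

namespace Cfsg.Agent.H961.FC

open Cfsg.Agent.H198.FC

universe u v

/-- (MT) -/
theorem mt_core {P : Type u} [Group P] {S A : Subgroup P} (hAS : A ≤ S)
    (hab : ∀ f ∈ A, ∀ g ∈ A, f * g = g * f) (hn : ∀ g ∈ S, ∀ f ∈ A, g * f * g⁻¹ ∈ A) {v₁ v₂ v₃ : P} (hv₁ : v₁ ∈ A)
    (hv₂ : v₂ ∈ A) (hv₃ : v₃ ∈ A)
    (hv : ∀ f ∈ S, f * v₁ = v₁ * f → f * v₂ = v₂ * f → f * v₃ = v₃ * f → ∀ g ∈ A, f * g = g * f) (x : P)
    (hx : ∀ f ∈ S, (∀ g ∈ A, f * g = g * f) → x * f * x⁻¹ ∈ S → f = 1) {f : P} (hf : f ∈ S) (h0 : x * f * x⁻¹ ∈ S)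
    (h1 : (x * v₁) * f * (x * v₁)⁻¹ ∈ S) (h2 : (x * v₂) * f * (x * v₂)⁻¹ ∈ S)
    (h3 : (x * v₃) * f * (x * v₃)⁻¹ ∈ S) : f = 1 := by
  have key : ∀ v ∈ A, (x * v) * f * (x * v)⁻¹ ∈ S → f * v = v * f := by
    intro v hv h
    have hc : v * (f * v⁻¹ * f⁻¹) ∈ A := A.mul_mem hv (hn f hf _ (A.inv_mem hv))
    have hc1 : v * (f * v⁻¹ * f⁻¹) = 1 := by
      refine hx _ (hAS hc) (fun g hg => hab _ hc _ hg) ?_
      have e : x * (v * (f * v⁻¹ * f⁻¹)) * x⁻¹ = ((x * v) * f * (x * v)⁻¹) * (x * f * x⁻¹)⁻¹ := by group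
      rw [e]
      exact S.mul_mem h (S.inv_mem h0)
    have e : f * v = (v * (f * v⁻¹ * f⁻¹))⁻¹ * (v * f) := by group
    rw [e, hc1, inv_one, one_mul]
  exact hx f hf (hv f hf (key v₁ hv₁ h1) (key v₂ hv₂ h2) (key v₃ hv₃ h3)) h0

section

variable {K : Type u} [Field K] [Finite K] {V : Type v} [AddCommGroup V] [Module K V] [Module.Finite K V]

instance instFiniteR961 : Finite (R K V) := Module.finite_of_finite K

/-- **L-C6mt** (the elements of `A` lift to `SL(V)`) -/
theorem five_of_lift {S A : Subgroup (Equiv.Perm (R K V))} {r a : ℕ} (hD : C6Data S A r a)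
    (hS : Group.IsSolvable S) (hl : ∀ f ∈ A, ∃ y : (R K V)ˣ, LinearMap.det (y : R K V) = 1 ∧ cj K V y = f)
    (x : (R K V)ˣ) (hx1 : LinearMap.det (x : R K V) = 1)
    (hx : ∀ f ∈ S, (∀ g ∈ A, f * g = g * f) → cj K V x * f * (cj K V x)⁻¹ ∈ S → f = 1) : Five S := by
  obtain ⟨-, -, -, hAS, -, -, -, hab, -, hn, hmin⟩ := hD
  obtain ⟨v₁, hv₁, v₂, hv₂, v₃, hv₃, hv⟩ := exists_three S A hS hAS hab hn hmin
  obtain ⟨y₁, hy₁, rfl⟩ := hl v₁ hv₁
  obtain ⟨y₂, hy₂, rfl⟩ := hl v₂ hv₂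
  obtain ⟨y₃, hy₃, rfl⟩ := hl v₃ hv₃
  refine ⟨![x, x * y₁, x * y₂, x * y₃], ?_, fun f hf h => ?_⟩
  · intro i
    fin_cases i
    · exact hx1
    · simp [hx1, hy₁]
    · simp [hx1, hy₂]
    · simp [hx1, hy₃]
  · have h0 := h 0
    have h1 := h 1
    have h2 := h 2
    have h3 := h 3
    simp only [Matrix.cons_val_zero, Matrix.cons_val_one, Matrix.cons_val, map_mul] at h0 h1 h2 h3
    exact mt_core hAS hab hn hv₁ hv₂ hv₃ hv (cj K V x) hx hf h0 h1 h2 h3

/-- **L-C6mt**, unitary and symplectic case -/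
theorem fiveB_of_lift {b : Cl K V} {S A : Subgroup (Equiv.Perm (R K V))} {r a : ℕ} (hD : C6Data S A r a)
    (hS : Group.IsSolvable S)
    (hl : ∀ f ∈ A, ∃ y : (R K V)ˣ, LinearMap.det (y : R K V) = 1 ∧ b.Isom y ∧ cj K V y = f)
    (x : (R K V)ˣ) (hx1 : LinearMap.det (x : R K V) = 1) (hxi : b.Isom x)
    (hx : ∀ f ∈ S, (∀ g ∈ A, f * g = g * f) → cj K V x * f * (cj K V x)⁻¹ ∈ S → f = 1) : FiveB b S := by
  obtain ⟨-, -, -, hAS, -, -, -, hab, -, hn, hmin⟩ := hD
  obtain ⟨v₁, hv₁, v₂, hv₂, v₃, hv₃, hv⟩ := exists_three S A hS hAS hab hn hmin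
  obtain ⟨y₁, hy₁, hi₁, rfl⟩ := hl v₁ hv₁
  obtain ⟨y₂, hy₂, hi₂, rfl⟩ := hl v₂ hv₂
  obtain ⟨y₃, hy₃, hi₃, rfl⟩ := hl v₃ hv₃
  have hmul : ∀ y : (R K V)ˣ, b.Isom y → b.Isom ((x * y : (R K V)ˣ) : R K V) := by
    intro y hy v w
    rw [Units.val_mul]
    show b.B ((x : R K V) ((y : R K V) v)) ((x : R K V) ((y : R K V) w)) = _
    rw [hxi, hy]
  refine ⟨![x, x * y₁, x * y₂, x * y₃], ?_, ?_, fun f hf h => ?_⟩
  · intro i
    fin_cases i
    · exact hx1
    · simp [hx1, hy₁]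
    · simp [hx1, hy₂]
    · simp [hx1, hy₃]
  · intro i
    fin_cases i
    · exact hxi
    · exact hmul y₁ hi₁
    · exact hmul y₂ hi₂
    · exact hmul y₃ hi₃
  · have h0 := h 0
    have h1 := h 1
    have h2 := h 2
    have h3 := h 3
    simp only [Matrix.cons_val_zero, Matrix.cons_val_one, Matrix.cons_val, map_mul] at h0 h1 h2 h3
    exact mt_core hAS hab hn hv₁ hv₂ hv₃ hv (cj K V x) hx hf h0 h1 h2 h3

end

end Cfsg.Agent.H961.FC
end

-- part: H961/FC/C6Str
section
/-!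
# S5764, L-C6mt: the structure of `C6Data` (helper961)

* `cj_eq_one` : `cj u = 1` iff `u` is a scalar;
* `exists_char` : the commutator pairing;
* `cent_inn` : `C(A) ∩ IN = A`.
-/

set_option autoImplicit false

namespace Cfsg.Agent.H961.FC

open Cfsg.Agent.H198.FC

universe u v

section

variable {K : Type u} [Field K] {V : Type v} [AddCommGroup V] [Module K V]

theorem exists_scalar_of_commute [Module.Finite K V] {X : R K V} (h : ∀ Y : R K V, X * Y = Y * X) :
    ∃ c : K, X = c • (1 : R K V) := by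
  have h1 : X ∈ Subalgebra.center K (R K V) := by
    rw [Subalgebra.mem_center_iff]
    exact fun Y => (h Y).symm
  rw [Module.End.mem_subalgebraCenter_iff] at h1
  obtain ⟨c, _, hc⟩ := h1
  exact ⟨c, hc.trans rfl⟩

theorem cj_eq_one [Module.Finite K V] {x : (R K V)ˣ} : cj K V x = 1 ↔ ∃ c : K, (x : R K V) = c • (1 : R K V) := by
  constructor
  · intro h
    refine exists_scalar_of_commute fun Y => ?_
    have h1 : (x : R K V) * Y * ((x⁻¹ : (R K V)ˣ) : R K V) = Y := by
      rw [← cj_apply, h]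
      rfl
    calc (x : R K V) * Y = (x : R K V) * Y * ((x⁻¹ : (R K V)ˣ) : R K V) * (x : R K V) := by simp [mul_assoc]
      _ = Y * x := by rw [h1]
  · rintro ⟨c, hc⟩
    apply Equiv.ext
    intro Y
    have h1 : (x : R K V) * Y = Y * x := by rw [hc]; simp
    rw [cj_apply, h1, mul_assoc]
    simp

theorem cj_eq_iff [Module.Finite K V] {x y : (R K V)ˣ} :
    cj K V x = cj K V y ↔ ∃ c : K, (x : R K V) = c • (y : R K V) := by
  have h : cj K V x = cj K V y ↔ cj K V (x * y⁻¹) = 1 := by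
    rw [map_mul, map_inv, mul_inv_eq_one]
  rw [h, cj_eq_one]
  refine exists_congr fun c => ?_
  constructor
  · intro h
    calc (x : R K V) = ((x * y⁻¹ : (R K V)ˣ) : R K V) * y := by simp
      _ = c • (y : R K V) := by rw [h]; simp
  · intro h
    rw [Units.val_mul, h]
    simp

end

section

variable {K : Type u} [Field K] {V : Type v} [AddCommGroup V] [Module K V] [Module.Finite K V]
  {A : Subgroup (Equiv.Perm (R K V))}

omit [Module.Finite K V] in
theorem smul_right_inj' [Nontrivial V] {c d : K} {y : (R K V)ˣ} (h : c • (y : R K V) = d • (y : R K V)) : c = d := by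
  obtain ⟨v, hv⟩ := exists_ne (0 : V)
  have h1 : c • (y : R K V) v = d • (y : R K V) v := by
    rw [← LinearMap.smul_apply, h, LinearMap.smul_apply]
  have h2 : (y : R K V) v ≠ 0 := by
    intro h0
    apply hv
    have : ((y⁻¹ : (R K V)ˣ) : R K V) ((y : R K V) v) = v := by
      rw [← Module.End.mul_apply, ← Units.val_mul, inv_mul_cancel, Units.val_one, Module.End.one_apply]
    rw [← this, h0, map_zero]
  exact smul_left_injective K h2 h1

/-- the character of `A` given by an inner automorphism centralizing `A` -/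
theorem exists_char [Nontrivial V] (hAI : A ≤ IN K V) (x : (R K V)ˣ)
    (hx : ∀ g ∈ A, cj K V x * g = g * cj K V x) :
    ∃ χ : A →* K, ∀ (y : (R K V)ˣ) (hy : cj K V y ∈ A),
      (x : R K V) * y * ((x⁻¹ : (R K V)ˣ) : R K V) = χ ⟨cj K V y, hy⟩ • (y : R K V) := by
  have h1 : ∀ y : (R K V)ˣ, cj K V y ∈ A → ∃ c : K, (x : R K V) * y * ((x⁻¹ : (R K V)ˣ) : R K V) = c • (y : R K V) := by
    intro y hy
    have h2 : cj K V (x * y * x⁻¹) = cj K V y := by
      rw [map_mul, map_mul, hx _ hy, map_inv, mul_inv_cancel_right]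
    obtain ⟨c, hc⟩ := cj_eq_iff.1 h2
    exact ⟨c, by rw [← hc, Units.val_mul, Units.val_mul]⟩
  have h2 : ∀ f : A, ∃ c : K, ∀ y : (R K V)ˣ, cj K V y = f →
      (x : R K V) * y * ((x⁻¹ : (R K V)ˣ) : R K V) = c • (y : R K V) := by
    intro f
    obtain ⟨y, hy⟩ := hAI f.2
    obtain ⟨c, hc⟩ := h1 y (by rw [hy]; exact f.2)
    refine ⟨c, fun y' hy' => ?_⟩
    obtain ⟨d, hd⟩ := cj_eq_iff.1 (hy'.trans hy.symm)
    rw [hd, mul_smul_comm, smul_mul_assoc, hc, smul_comm]
  choose χ hχ using h2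
  refine ⟨{ toFun := χ, map_one' := ?_, map_mul' := fun f g => ?_ }, fun y hy => hχ ⟨_, hy⟩ y rfl⟩
  · have h3 := hχ 1 1 (map_one _)
    rw [Units.val_one, mul_one, ← Units.val_mul, mul_inv_cancel, Units.val_one] at h3
    apply smul_right_inj' (y := (1 : (R K V)ˣ))
    rw [Units.val_one, ← h3, one_smul]
  · obtain ⟨y, hy⟩ := hAI f.2
    obtain ⟨z, hz⟩ := hAI g.2
    have h3 := hχ f y hy
    have h4 := hχ g z hz
    have h5 := hχ (f * g) (y * z) (by rw [map_mul, hy, hz]; rfl)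
    apply smul_right_inj' (y := y * z)
    rw [← h5, Units.val_mul]
    calc (x : R K V) * (y * z) * ((x⁻¹ : (R K V)ˣ) : R K V)
        = ((x : R K V) * y * ((x⁻¹ : (R K V)ˣ) : R K V)) * ((x : R K V) * z * ((x⁻¹ : (R K V)ˣ) : R K V)) := by
          simp [mul_assoc]
      _ = (χ f * χ g) • ((y : R K V) * z) := by
        rw [h3, h4, smul_mul_assoc, mul_smul_comm, smul_smul]

omit [Module.Finite K V] in
/-- elements commuting with the lifts of `A` are scalars -/
theorem commute_of_span (hsp : Submodule.span K {X : R K V | ∃ x : (R K V)ˣ, (x : R K V) = X ∧ cj K V x ∈ A} = ⊤)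
    {X : R K V} (h : ∀ y : (R K V)ˣ, cj K V y ∈ A → X * y = y * X) (Y : R K V) : X * Y = Y * X := by
  have hY : Y ∈ Submodule.span K {X : R K V | ∃ x : (R K V)ˣ, (x : R K V) = X ∧ cj K V x ∈ A} := hsp ▸ Submodule.mem_top
  induction hY using Submodule.span_induction with
  | mem Z hZ =>
    obtain ⟨y, rfl, hy⟩ := hZ
    exact h y hy
  | zero => simp
  | add Z W _ _ hZ hW => rw [mul_add, add_mul, hZ, hW]
  | smul c Z _ hZ => rw [mul_smul_comm, smul_mul_assoc, hZ]

/-- two inner automorphisms centralizing `A` with the same character are equal -/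
theorem eq_of_char (hsp : Submodule.span K {X : R K V | ∃ x : (R K V)ˣ, (x : R K V) = X ∧ cj K V x ∈ A} = ⊤)
    (x x' : (R K V)ˣ) (h : ∀ y : (R K V)ˣ, cj K V y ∈ A →
      (x : R K V) * y * ((x⁻¹ : (R K V)ˣ) : R K V) = (x' : R K V) * y * ((x'⁻¹ : (R K V)ˣ) : R K V)) :
    cj K V x = cj K V x' := by
  have h1 : cj K V (x'⁻¹ * x) = 1 := by
    rw [cj_eq_one]
    refine exists_scalar_of_commute (commute_of_span hsp fun y hy => ?_)
    have h2 := h y hy
    calc ((x'⁻¹ * x : (R K V)ˣ) : R K V) * y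
        = ((x'⁻¹ : (R K V)ˣ) : R K V) * ((x : R K V) * y * ((x⁻¹ : (R K V)ˣ) : R K V)) * x := by
          simp [mul_assoc]
      _ = ((x'⁻¹ : (R K V)ˣ) : R K V) * ((x' : R K V) * y * ((x'⁻¹ : (R K V)ˣ) : R K V)) * x := by rw [h2]
      _ = y * ((x'⁻¹ * x : (R K V)ˣ) : R K V) := by simp [mul_assoc]
  rw [map_mul, map_inv, inv_mul_eq_one] at h1
  exact h1.symm

omit [Module.Finite K V] in
theorem nontrivial_of {r a : ℕ} (hr : r.Prime) (h : Module.finrank K V = r ^ a) : Nontrivial V := by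
  apply Module.nontrivial_of_finrank_pos (R := K)
  rw [h]
  exact pow_pos hr.pos a

/-- `C(A) ∩ IN = A` -/
theorem cent_inn [Finite K] {S : Subgroup (Equiv.Perm (R K V))} {r a : ℕ} (hD : C6Data S A r a)
    {f : Equiv.Perm (R K V)} (hf : f ∈ IN K V) (hfA : ∀ g ∈ A, f * g = g * f) : f ∈ A := by
  classical
  obtain ⟨hr, -, hdim, -, hAI, hcard, -, hab, hsp, -, -⟩ := hD
  have := nontrivial_of hr hdim
  let C : Subgroup (Equiv.Perm (R K V)) := Subgroup.centralizer (A : Set (Equiv.Perm (R K V))) ⊓ IN K V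
  have hC : ∀ g : C, ∃ x : (R K V)ˣ, cj K V x = g ∧ ∃ χ : A →* K, ∀ (y : (R K V)ˣ) (hy : cj K V y ∈ A),
      (x : R K V) * y * ((x⁻¹ : (R K V)ˣ) : R K V) = χ ⟨cj K V y, hy⟩ • (y : R K V) := by
    intro g
    obtain ⟨x, hx⟩ := g.2.2
    refine ⟨x, hx, exists_char hAI x fun h hh => ?_⟩
    rw [hx]
    exact (Subgroup.mem_centralizer_iff.1 g.2.1 h hh).symm
  choose x hx χ hχ using hC
  have hinj : Function.Injective χ := by
    intro g g' h
    apply Subtype.ext
    rw [← hx g, ← hx g']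
    refine eq_of_char hsp _ _ fun y hy => ?_
    rw [hχ _ y hy, hχ _ y hy, h]
  have hfin : Nat.card (A →* K) ≤ Nat.card A := by
    have := Fintype.ofFinite A
    have : Finite (A →* K) := Finite.of_injective (fun f : A →* K => (f : A → K)) DFunLike.coe_injective
    have := Fintype.ofFinite (A →* K)
    have h1 := (linearIndependent_monoidHom A K).fintype_card_le_finrank
    rwa [Module.finrank_fintype_fun_eq_card, ← Nat.card_eq_fintype_card, ← Nat.card_eq_fintype_card] at h1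
  have : Finite (A →* K) := Finite.of_injective (fun f : A →* K => (f : A → K)) DFunLike.coe_injective
  have hle : Nat.card C ≤ Nat.card A := (Nat.card_le_card_of_injective χ hinj).trans hfin
  have hAC : A ≤ C := fun g hg => ⟨Subgroup.mem_centralizer_iff.2 fun h hh => hab h hh g hg, hAI hg⟩
  have : A = C := Subgroup.eq_of_le_of_card_ge hAC hle
  rw [this]
  exact ⟨Subgroup.mem_centralizer_iff.2 fun h hh => (hfA h hh).symm, hf⟩

end

end Cfsg.Agent.H961.FC
end

-- part: H961/FC/C6Lift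
section
/-!
# S5764, L-C6mt: the elements of `A` lift to `SL(V)` (helper961)

* `det_semi` : determinants and semilinear bijections;
* `conj_det` : elements of `RA` normalize the image of `SL(V)`;
* `lift_SL` : the elements of `A` lift to `SL(V)`;
* `five_of` : **L-C6mt**.
-/

set_option autoImplicit false

namespace Cfsg.Agent.H961.FC

open Cfsg.Agent.H198.FC

universe u v w

section det

variable {K : Type u} [Field K] {V : Type v} [AddCommGroup V] [Module K V] [Module.Finite K V]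
  {W : Type w} [AddCommGroup W] [Module K W]

theorem det_semi (σ : K ≃+* K) (g : V ≃+ W) (hg : ∀ (a : K) (v : V), g (a • v) = σ a • g v) (X : Module.End K V)
    (Y : Module.End K W) (h : ∀ v, Y (g v) = g (X v)) : LinearMap.det Y = σ (LinearMap.det X) := by
  classical
  set b := Module.finBasis K V with hb
  have hgs : ∀ (c : Fin (Module.finrank K V) → K), g (∑ i, c i • b i) = ∑ i, σ (c i) • g (b i) := by
    intro c
    rw [map_sum]
    exact Finset.sum_congr rfl fun i _ => hg _ _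
  have hli : LinearIndependent K (fun i => g (b i)) := by
    rw [Fintype.linearIndependent_iff]
    intro c hc i
    have h1 : g (∑ i, σ.symm (c i) • b i) = 0 := by
      rw [hgs, ← hc]
      exact Finset.sum_congr rfl fun i _ => by rw [RingEquiv.apply_symm_apply]
    have h2 : ∑ i, σ.symm (c i) • b i = 0 := by
      apply g.injective
      rw [h1, map_zero]
    have h3 := Fintype.linearIndependent_iff.1 b.linearIndependent _ h2 i
    simpa using h3
  have hsp : ⊤ ≤ Submodule.span K (Set.range fun i => g (b i)) := by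
    intro w _
    obtain ⟨v, rfl⟩ := g.surjective w
    rw [← b.sum_repr v, hgs]
    exact Submodule.sum_mem _ fun i _ => Submodule.smul_mem _ _ (Submodule.subset_span ⟨i, rfl⟩)
  let b' := Module.Basis.mk hli hsp
  have hb' : ∀ i, b' i = g (b i) := fun i => Module.Basis.mk_apply hli hsp i
  have hM : LinearMap.toMatrix b' b' Y = (LinearMap.toMatrix b b X).map σ := by
    ext i j
    rw [LinearMap.toMatrix_apply, Matrix.map_apply, LinearMap.toMatrix_apply, hb', h]
    have h1 : g (X (b j)) = ∑ k, σ (b.repr (X (b j)) k) • b' k := by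
      conv_lhs => rw [← b.sum_repr (X (b j))]
      rw [hgs]
      exact Finset.sum_congr rfl fun k _ => by rw [hb']
    rw [h1, b'.repr_sum_self]
  rw [← LinearMap.det_toMatrix b' Y, hM, ← LinearMap.det_toMatrix b X]
  exact (RingHom.map_det (σ : K →+* K) _).symm

end det

section

variable {K : Type u} [Field K] {V : Type v} [AddCommGroup V] [Module K V] [Module.Finite K V]

omit [Module.Finite K V] in
/-- conjugation of `cj y` by a ring automorphism -/
theorem conj_RP {f : Equiv.Perm (R K V)} (hf : f ∈ RP K V) (y : (R K V)ˣ) :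
    ∃ y' : (R K V)ˣ, (y' : R K V) = f y ∧ ((y'⁻¹ : (R K V)ˣ) : R K V) = f ((y⁻¹ : (R K V)ˣ) : R K V) ∧
      f * cj K V y * f⁻¹ = cj K V y' := by
  have h1 : f 1 = 1 := by
    have h2 : f 1 * f (f⁻¹ 1) = f (f⁻¹ 1) := by rw [← hf.2, one_mul]
    simpa using h2
  let y' : (R K V)ˣ := ⟨f y, f ((y⁻¹ : (R K V)ˣ) : R K V), by rw [← hf.2, Units.mul_inv, h1],
    by rw [← hf.2, Units.inv_mul, h1]⟩
  refine ⟨y', rfl, rfl, Equiv.ext fun X => ?_⟩
  show f ((y : R K V) * f⁻¹ X * ((y⁻¹ : (R K V)ˣ) : R K V)) = f y * X * f ((y⁻¹ : (R K V)ˣ) : R K V)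
  rw [hf.2, hf.2]
  simp

omit [Module.Finite K V] in
/-- conjugation of `cj y` by a ring anti-automorphism -/
theorem conj_RA {f : Equiv.Perm (R K V)} (hf : ∀ X Y : R K V, f (X * Y) = f Y * f X) (y : (R K V)ˣ) :
    ∃ y' : (R K V)ˣ, (y' : R K V) = f ((y⁻¹ : (R K V)ˣ) : R K V) ∧ f * cj K V y * f⁻¹ = cj K V y' := by
  have h1 : f 1 = 1 := by
    have h2 : f (f⁻¹ 1) * f 1 = f (f⁻¹ 1) := by rw [← hf, one_mul]
    simpa using h2
  let y' : (R K V)ˣ := ⟨f ((y⁻¹ : (R K V)ˣ) : R K V), f y, by rw [← hf, Units.mul_inv, h1],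
    by rw [← hf, Units.inv_mul, h1]⟩
  refine ⟨y', rfl, Equiv.ext fun X => ?_⟩
  show f ((y : R K V) * f⁻¹ X * ((y⁻¹ : (R K V)ˣ) : R K V)) = f ((y⁻¹ : (R K V)ˣ) : R K V) * X * f y
  rw [hf, hf]
  simp [mul_assoc]

/-- elements of `RP` preserve the determinants up to a field automorphism -/
theorem det_RP (hSN : StmtSN.{u, v}) (hV : 1 ≤ Module.finrank K V) {f : Equiv.Perm (R K V)} (hf : f ∈ RP K V) :
    ∃ σ : K ≃+* K, ∀ X : R K V, LinearMap.det (f X) = σ (LinearMap.det X) := by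
  obtain ⟨g, ⟨hg0, σ, hg⟩, hgf⟩ := hSN K V hV f hf
  refine ⟨σ, fun X => ?_⟩
  let g' : V ≃+ V := { g with map_add' := hg0 }
  exact det_semi σ g' hg X (f X) (hgf X)

/-- anti-automorphisms preserve the determinants up to a field automorphism -/
theorem det_RA (hSNc : StmtSNcor.{u, v}) (hV : 1 ≤ Module.finrank K V) {f : Equiv.Perm (R K V)} (hf : f ∈ RA K V)
    (hf' : ∀ X Y : R K V, f (X * Y) = f Y * f X) :
    ∃ σ : K ≃+* K, ∀ X : R K V, LinearMap.det (f X) = σ (LinearMap.det X) := by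
  obtain ⟨σ, g, hg, hgf⟩ := hSNc K V hV f hf hf'
  refine ⟨σ, fun X => ?_⟩
  rw [← LinearMap.det_dualMap]
  refine det_semi σ g hg X _ fun v => ?_
  ext w
  rw [hgf]
  rfl

/-- elements of `RA` normalize the image of `SL(V)` -/
theorem conj_det (hSN : StmtSN.{u, v}) (hSNc : StmtSNcor.{u, v}) (hV : 1 ≤ Module.finrank K V)
    {f : Equiv.Perm (R K V)} (hf : f ∈ RA K V) {y : (R K V)ˣ} (hy : LinearMap.det (y : R K V) = 1) :
    ∃ y' : (R K V)ˣ, LinearMap.det (y' : R K V) = 1 ∧ f * cj K V y * f⁻¹ = cj K V y' := by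
  rcases hf.2 with h | h
  · obtain ⟨σ, hσ⟩ := det_RP hSN hV ⟨hf.1, h⟩
    obtain ⟨y', h1, -, h2⟩ := conj_RP ⟨hf.1, h⟩ y
    exact ⟨y', by rw [h1, hσ, hy, map_one], h2⟩
  · obtain ⟨σ, hσ⟩ := det_RA hSNc hV hf h
    obtain ⟨y', h1, h2⟩ := conj_RA h y
    refine ⟨y', ?_, h2⟩
    rw [h1, hσ]
    have h3 : LinearMap.det ((y⁻¹ : (R K V)ˣ) : R K V) = 1 := by
      have h4 : LinearMap.det (y : R K V) * LinearMap.det ((y⁻¹ : (R K V)ˣ) : R K V) = 1 := by
        rw [← map_mul, Units.mul_inv, map_one]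
      rwa [hy, one_mul] at h4
    rw [h3, map_one]

end

section cyclic

theorem ker_map_ne_bot {U P C : Type*} [Group U] [Group P] [Group C] [IsCyclic C] (c : U →* P) (φ : U →* C)
    (h : ¬ IsCyclic c.range) : φ.ker.map c ≠ ⊥ := by
  intro hbot
  apply h
  obtain ⟨⟨g, u, hu⟩, hg⟩ := IsCyclic.exists_generator (α := φ.range)
  refine ⟨⟨⟨c u, u, rfl⟩, ?_⟩⟩
  rintro ⟨-, y, rfl⟩
  obtain ⟨k, hk⟩ := hg ⟨φ y, y, rfl⟩
  have hk' : g ^ k = φ y := congrArg Subtype.val hk
  have h1 : y * (u ^ k)⁻¹ ∈ φ.ker := by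
    rw [MonoidHom.mem_ker, map_mul, map_inv, map_zpow, hu, hk', mul_inv_cancel]
  have h2 : c (y * (u ^ k)⁻¹) ∈ φ.ker.map c := ⟨_, h1, rfl⟩
  rw [hbot, Subgroup.mem_bot, map_mul, map_inv, map_zpow, mul_inv_eq_one] at h2
  exact ⟨k, Subtype.ext h2.symm⟩

variable {K : Type u} [Field K] {V : Type v} [AddCommGroup V] [Module K V]
  {S A : Subgroup (Equiv.Perm (R K V))} {r a : ℕ}

theorem not_cyclic (hD : C6Data S A r a) : ¬ IsCyclic A := by
  intro h
  have h1 : Nat.card A = r ^ (2 * a) := hD.2.2.2.2.2.1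
  have hr := hD.1
  obtain ⟨g, hg⟩ := IsCyclic.exists_generator (α := A)
  have h2 : orderOf g = Nat.card A := orderOf_eq_card_of_forall_mem_zpowers hg
  have h3 : orderOf g ∣ r := orderOf_dvd_of_pow_eq_one (Subtype.ext (hD.2.2.2.2.2.2.1 g g.2))
  rw [h2, h1] at h3
  have h4 := Nat.le_of_dvd hr.pos h3
  have h5 : r ^ 2 ≤ r ^ (2 * a) := Nat.pow_le_pow_right hr.pos (by have := hD.2.1; omega)
  have h6 := hr.two_le
  nlinarith

/-- lifts by means of a homomorphism to a cyclic group -/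
theorem lift_generic (hD : C6Data S A r a) (Γ : Subgroup (R K V)ˣ)
    (hΓ : ∀ f ∈ S, ∀ y ∈ Γ, ∃ y' ∈ Γ, f * cj K V y * f⁻¹ = cj K V y') {U C : Type*} [Group U] [Group C] [IsCyclic C]
    (c : U →* Equiv.Perm (R K V)) (hc : c.range = A) (φ : U →* C) (hφ : ∀ u, φ u = 1 → ∃ y ∈ Γ, cj K V y = c u) :
    ∀ f ∈ A, ∃ y ∈ Γ, cj K V y = f := by
  have h1 : φ.ker.map c ≠ ⊥ := ker_map_ne_bot c φ (by rw [hc]; exact not_cyclic hD)
  have hn := hD.2.2.2.2.2.2.2.2.2.1
  rcases hD.2.2.2.2.2.2.2.2.2.2 (Γ.map (cj K V) ⊓ A) inf_le_right (by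
    rintro g hg f ⟨⟨y, hy, rfl⟩, hfA⟩
    refine ⟨?_, hn g hg _ hfA⟩
    obtain ⟨y', hy', h⟩ := hΓ g hg y hy
    rw [h]
    exact ⟨y', hy', rfl⟩) with h2 | h2
  · exfalso
    apply h1
    rw [eq_bot_iff, ← h2]
    rintro - ⟨u, hu, rfl⟩
    obtain ⟨y, hy, hyu⟩ := hφ u hu
    exact ⟨⟨y, hy, hyu⟩, hc ▸ ⟨u, rfl⟩⟩
  · intro f hf
    rw [← h2] at hf
    exact hf.1

end cyclic

section

variable {K : Type u} [Field K] [Finite K] {V : Type v} [AddCommGroup V] [Module K V] [Module.Finite K V]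
  {S A : Subgroup (Equiv.Perm (R K V))} {r a : ℕ}

/-- the group `SL(V)` -/
noncomputable def SLu (K : Type u) [Field K] (V : Type v) [AddCommGroup V] [Module K V] : Subgroup (R K V)ˣ :=
  (Units.map (LinearMap.det : R K V →* K)).ker

omit [Finite K] [Module.Finite K V] in
theorem mem_SLu {y : (R K V)ˣ} : y ∈ SLu K V ↔ LinearMap.det (y : R K V) = 1 := by
  rw [SLu, MonoidHom.mem_ker, Units.ext_iff]
  rfl

/-- multiplication of a unit by a scalar -/
def smulU (c : Kˣ) (y : (R K V)ˣ) : (R K V)ˣ :=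
  ⟨(c : K) • (y : R K V), ((c⁻¹ : Kˣ) : K) • ((y⁻¹ : (R K V)ˣ) : R K V), by simp [smul_smul], by simp [smul_smul]⟩

omit [Finite K] in
theorem cj_smulU (c : Kˣ) (y : (R K V)ˣ) : cj K V (smulU c y) = cj K V y := cj_eq_iff.2 ⟨c, rfl⟩

omit [Finite K] [Module.Finite K V] in
theorem det_smulU (c : Kˣ) (y : (R K V)ˣ) :
    LinearMap.det (smulU c y : R K V) = (c : K) ^ Module.finrank K V * LinearMap.det (y : R K V) := by
  show LinearMap.det ((c : K) • (y : R K V)) = _
  rw [LinearMap.det_smul]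

/-- the elements of `A` lift to `SL(V)` -/
theorem lift_SL (hSN : StmtSN.{u, v}) (hSNc : StmtSNcor.{u, v}) (hD : C6Data S A r a) (hSR : S ≤ RA K V) :
    ∀ f ∈ A, ∃ y : (R K V)ˣ, LinearMap.det (y : R K V) = 1 ∧ cj K V y = f := by
  have hV : 1 ≤ Module.finrank K V := by rw [hD.2.2.1]; exact pow_pos hD.1.pos a
  let n := Module.finrank K V
  let Q : Subgroup Kˣ := (powMonoidHom n : Kˣ →* Kˣ).range
  have hcyc : IsCyclic (Kˣ ⧸ Q) := isCyclic_of_surjective (QuotientGroup.mk' Q) (QuotientGroup.mk'_surjective Q)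
  let U : Subgroup (R K V)ˣ := A.comap (cj K V)
  have key := lift_generic hD (SLu K V) (fun f hf y hy => by
      obtain ⟨y', h1, h2⟩ := conj_det hSN hSNc hV (hSR hf) (mem_SLu.1 hy)
      exact ⟨y', mem_SLu.2 h1, h2⟩) ((cj K V).comp U.subtype) (by
      apply le_antisymm
      · rintro - ⟨u, rfl⟩
        exact u.2
      · intro f hf
        obtain ⟨y, rfl⟩ := hD.2.2.2.2.1 hf
        exact ⟨⟨y, hf⟩, rfl⟩)
    ((QuotientGroup.mk' Q).comp ((Units.map (LinearMap.det : R K V →* K)).comp U.subtype)) (fun u hu => by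
      have h1 : Units.map (LinearMap.det : R K V →* K) u ∈ Q := (QuotientGroup.eq_one_iff _).1 hu
      obtain ⟨c, hc⟩ := h1
      refine ⟨smulU c⁻¹ u, ?_, cj_smulU _ _⟩
      rw [mem_SLu, det_smulU]
      have h2 : (c : K) ^ n = LinearMap.det ((u : (R K V)ˣ) : R K V) := congrArg Units.val hc
      rw [← h2, Units.val_inv_eq_inv_val, inv_pow]
      exact inv_mul_cancel₀ (pow_ne_zero _ c.ne_zero))
  intro f hf
  obtain ⟨y, hy, h⟩ := key f hf
  exact ⟨y, mem_SLu.1 hy, h⟩

/-- **L-C6mt** -/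
theorem five_of (hSN : StmtSN.{u, v}) (hSNc : StmtSNcor.{u, v}) (hD : C6Data S A r a) (hSR : S ≤ RA K V)
    (hS : Group.IsSolvable S) (x : (R K V)ˣ) (hx1 : LinearMap.det (x : R K V) = 1)
    (hx : ∀ f ∈ S, (∀ g ∈ A, f * g = g * f) → cj K V x * f * (cj K V x)⁻¹ ∈ S → f = 1) : Five S :=
  five_of_lift hD hS (lift_SL hSN hSNc hD hSR) x hx1 hx

end

end Cfsg.Agent.H961.FC
end

-- part: H961/FC/ClDet
section
/-!
# S5764: similitudes, isometries and determinants (helper961)

* `simil` : an inner automorphism in `RB b` is induced by a similitude;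
* `exists_isom` : unitary case: by an isometry;
* `det_isom_U` : `det y * τ (det y) = 1`; `det_isom_Sp` : `det y = 1`.
-/

set_option autoImplicit false

namespace Cfsg.Agent.H961.FC

open Cfsg.Agent.H198.FC Matrix

universe u v

variable {K : Type u} [Field K] {V : Type v} [AddCommGroup V] [Module K V] (b : Cl K V)

theorem exists_B_ne [Nontrivial V] : ∃ v w, b.B v w ≠ 0 := by
  obtain ⟨v, hv⟩ := exists_ne (0 : V)
  by_contra hcon
  push Not at hcon
  exact hv (b.nondeg v (hcon v))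

/-- the rank one map `v ↦ B(v, s) t` -/
def rk (s t : V) : R K V where
  toFun v := b.B v s • t
  map_add' v w := by rw [b.add_left, add_smul]
  map_smul' a v := by rw [b.smul_left, mul_smul]; rfl

/-- the rank one map `w ↦ τ B(t, w) s` -/
def rk' (s t : V) : R K V where
  toFun w := b.τ (b.B t w) • s
  map_add' v w := by rw [b.add_right, map_add, add_smul]
  map_smul' a v := by rw [b.smul_right, map_mul, b.invol, mul_smul]; rfl

theorem rk_adj (s t : V) : b.Adj (rk b s t) (rk' b s t) := by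
  intro v w
  show b.B (b.B v s • t) w = b.B v (b.τ (b.B t w) • s)
  rw [b.smul_left, b.smul_right, b.invol, mul_comm]

theorem units_inv_apply (y : (R K V)ˣ) (v : V) : ((y⁻¹ : (R K V)ˣ) : R K V) ((y : R K V) v) = v := by
  rw [← Module.End.mul_apply, ← Units.val_mul, inv_mul_cancel, Units.val_one, Module.End.one_apply]

theorem units_apply_inv (y : (R K V)ˣ) (v : V) : (y : R K V) (((y⁻¹ : (R K V)ˣ) : R K V) v) = v := by
  rw [← Module.End.mul_apply, ← Units.val_mul, mul_inv_cancel, Units.val_one, Module.End.one_apply]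

/-- an inner automorphism in `RB b` is induced by a similitude -/
theorem simil [Nontrivial V] {y : (R K V)ˣ} (hy : cj K V y ∈ RB b) :
    ∃ μ : K, μ ≠ 0 ∧ ∀ v w, b.B ((y : R K V) v) ((y : R K V) w) = μ * b.B v w := by
  have key : ∀ v s t w, b.B v s * b.B ((y : R K V) t) ((y : R K V) w) =
      b.B t w * b.B ((y : R K V) v) ((y : R K V) s) := by
    intro v s t w
    have h1 := (hy.2 _ _).1 (rk_adj b s t) ((y : R K V) v) ((y : R K V) w)
    rw [cj_apply, cj_apply] at h1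
    simp only [Module.End.mul_apply, units_inv_apply] at h1
    have h2 : (rk b s t) v = b.B v s • t := rfl
    have h3 : (rk' b s t) w = b.τ (b.B t w) • s := rfl
    rw [h2, h3, map_smul, map_smul, b.smul_left, b.smul_right, b.invol] at h1
    exact h1
  obtain ⟨v, s, hvs⟩ := exists_B_ne b
  have h1 : ∀ t w, b.B ((y : R K V) t) ((y : R K V) w) =
      (b.B ((y : R K V) v) ((y : R K V) s) / b.B v s) * b.B t w := by
    intro t w
    rw [div_mul_eq_mul_div, eq_div_iff hvs]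
    linear_combination key v s t w
  refine ⟨_, ?_, h1⟩
  intro h0
  apply hvs
  have h2 := h1 (((y⁻¹ : (R K V)ˣ) : R K V) v) (((y⁻¹ : (R K V)ˣ) : R K V) s)
  rw [units_apply_inv, units_apply_inv, h0, zero_mul] at h2
  exact h2

/-- unitary case: isometric lifts -/
theorem exists_isom [Finite K] [Module.Finite K V] [Nontrivial V] (hU : b.IsU) {y : (R K V)ˣ} (hy : cj K V y ∈ RB b) :
    ∃ y' : (R K V)ˣ, b.Isom y' ∧ cj K V y' = cj K V y := by
  obtain ⟨μ, hμ, h⟩ := simil b hy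
  obtain ⟨v, s, hvs⟩ := exists_B_ne b
  have h1 : b.τ μ = μ := by
    have h2 := hU.2 ((y : R K V) v) ((y : R K V) s)
    rw [h, h, map_mul, ← hU.2 v s] at h2
    have h3 : b.B s v ≠ 0 := by
      intro h0
      apply hvs
      rw [hU.2 s v, h0, map_zero]
    exact (mul_right_cancel₀ h3 h2).symm
  obtain ⟨l, hl⟩ := Cfsg.Agent.TitsThree.PQClass.norm_surj b.τ b.invol hU.1 h1
  have hl0 : l ≠ 0 := by
    rintro rfl
    rw [zero_mul] at hl
    exact hμ hl.symm
  refine ⟨smulU (Units.mk0 l hl0)⁻¹ y, fun v w => ?_, cj_smulU _ _⟩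
  show b.B (l⁻¹ • (y : R K V) v) (l⁻¹ • (y : R K V) w) = _
  rw [b.smul_left, b.smul_right, h, map_inv₀, ← hl]
  have h2 : b.τ l ≠ 0 := by
    intro h0
    apply hl0
    rw [← b.invol l, h0, map_zero]
  field_simp

/-- `w ↦ B(w, v)` -/
def toDual (v : V) : Module.Dual K V where
  toFun w := b.B w v
  map_add' w w' := b.add_left w w' v
  map_smul' a w := b.smul_left a w v

theorem B_zero_comm {v w : V} (h : b.B v w = 0) : b.B w v = 0 := by
  rcases b.typ with ⟨-, h1⟩ | ⟨-, h1⟩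
  · rw [h1, h, map_zero]
  · have h2 := h1 (v + w)
    rw [b.add_left, b.add_right, b.add_right, h1, h1, h] at h2
    simpa using h2

theorem toDual_bij [Finite K] [Module.Finite K V] : Function.Bijective (toDual b) := by
  have hinj : Function.Injective (toDual b) := by
    intro v v' h
    rw [← sub_eq_zero]
    apply b.nondeg
    intro w
    apply B_zero_comm
    have h1 : b.B w v = b.B w v' := DFunLike.congr_fun h w
    have h2 : b.B w (v - v') + b.B w v' = b.B w v := by rw [← b.add_right, sub_add_cancel]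
    rw [h1] at h2
    simpa using h2
  have : Finite V := Module.finite_of_finite K
  have : Finite (Module.Dual K V) := Module.finite_of_finite K
  refine hinj.bijective_of_nat_card_le ?_
  rw [Module.natCard_eq_pow_finrank (K := K) (V := V), Module.natCard_eq_pow_finrank (K := K) (V := Module.Dual K V),
    Subspace.dual_finrank_eq]

/-- `det y * τ (det y) = 1` for isometries -/
theorem det_isom [Finite K] [Module.Finite K V] {y : (R K V)ˣ} (hy : b.Isom y) :
    LinearMap.det (y : R K V) * b.τ (LinearMap.det (y : R K V)) = 1 := by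
  let g : V ≃+ Module.Dual K V := AddEquiv.ofBijective
    ({ toFun := toDual b
       map_zero' := by
         ext w
         have h := b.add_right w 0 0
         rw [add_zero] at h
         show b.B w 0 = 0
         simpa using h
       map_add' := fun v v' => by
         ext w
         exact b.add_right w v v' } : V →+ Module.Dual K V) (toDual_bij b)
  have hgv : ∀ v w, g v w = b.B w v := fun _ _ => rfl
  have h1 := det_semi b.τ g (fun a v => by
    ext w
    exact b.smul_right a w v) (y : R K V) (((y⁻¹ : (R K V)ˣ) : R K V).dualMap) (fun v => by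
    ext w
    rw [LinearMap.dualMap_apply, hgv, hgv, ← hy, units_apply_inv])
  rw [LinearMap.det_dualMap] at h1
  rw [← h1, ← map_mul, Units.mul_inv, map_one]

/-- symplectic isometries have determinant `1` -/
theorem det_isom_Sp [Module.Finite K V] (hS : b.IsSp) {y : (R K V)ˣ} (hy : b.Isom y) :
    LinearMap.det (y : R K V) = 1 := by
  classical
  let B : LinearMap.BilinForm K V := LinearMap.mk₂ K b.B b.add_left (fun a v w => b.smul_left a v w) b.add_right
    (fun a v w => by rw [b.smul_right, hS.1]; rfl)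
  have hBA : B.IsAlt := fun v => hS.2 v
  obtain ⟨m, k, e, h1, h2, h3, h4⟩ := Cfsg.Agent.S0752.result B hBA
  have hk : k = 0 := by
    rcases Nat.eq_zero_or_pos k with h | h
    · exact h
    · exact absurd (b.nondeg _ (h4 ⟨0, h⟩)) (e.ne_zero _)
  subst hk
  let e' : Module.Basis (Fin m ⊕ Fin m) K V := e.reindex (Equiv.sumEmpty (Fin m ⊕ Fin m) (Fin 0))
  have he' : ∀ i, e' i = e (Sum.inl i) := by
    intro i
    simp [e']
  have hG : LinearMap.toMatrix₂ e' e' B = - Matrix.J (Fin m) K := by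
    ext i j
    rw [LinearMap.toMatrix₂_apply, he', he', Matrix.J]
    rcases i with i | i <;> rcases j with j | j
    · simp [h2]
    · simp [h1, Matrix.one_apply]
    · rw [← hBA.neg_eq, h1]
      simp [Matrix.one_apply, eq_comm]
    · simp [h3]
  have hc : B.compl₁₂ (y : R K V) (y : R K V) = B := by
    ext v w
    exact hy v w
  have h5 := LinearMap.toMatrix₂_compl₁₂ e' e' e' e' B (y : R K V) (y : R K V)
  rw [hc, hG] at h5
  have h6 : LinearMap.toMatrix e' e' (y : R K V) ∈ Matrix.symplecticGroup (Fin m) K := by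
    rw [SymplecticGroup.mem_iff']
    simpa using h5.symm
  rw [← LinearMap.det_toMatrix e']
  exact SymplecticGroup.det_eq_one h6

end Cfsg.Agent.H961.FC
end

-- part: H412/FC/UFour
section
/-!
# S5764: extraspecial type normalizers, unitary, `n = 4` (helper412, mathematics helper198)

A frame: lifts `Z1, Z2, X1, X2` of elements of `A` with squares `1` which commute or anticommute, and either all of them
isometries, or `Z1, X1` isometries, `Z2, X2` anti-isometries and `-1` a square in the fixed field.  In the basis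
`e 0, e 1 = X1 (e 0), e 2 = X2 (e 0), e 3 = X1 X2 (e 0)` of common eigenvectors of `Z1, Z2` the transvection `x` with
centre `e 1 + e 2 + α e 3` (resp. `e 0 + e 2 + t e 1`) satisfies `C_S(A) ∩ S ^ x = 1`.
-/

set_option autoImplicit false

namespace Cfsg.Agent.H412.FC.UFour

open Cfsg.Agent.H198.FC Cfsg.Agent.H277.FC Cfsg.Agent.H563.FC

universe u v

/-! ### the field -/

section field

variable {K : Type u} [Field K] [Finite K] {τ : K ≃+* K}

/-- a generator -/
theorem exists_gn (K : Type u) [Field K] [Finite K] : ∃ t : Kˣ, ∀ x : Kˣ, x ∈ Subgroup.zpowers t :=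
  IsCyclic.exists_generator

theorem exists_kappa (hinv : ∀ a, τ (τ a) = a) (hne : ∃ a, τ a ≠ a) (h2 : (2 : K) ≠ 0) :
    ∃ κ : K, κ ≠ 0 ∧ τ κ = -κ ∧ (∀ a, τ a = a → ∃ c, a = c * c) ∧ ∀ σ : K ≃+* K, σ κ = κ → ∀ a, σ a = a := by
  obtain ⟨t, ht⟩ := exists_gn K
  have hgen : ∀ x : K, x ≠ 0 → ∃ k : ℤ, x = (t : K) ^ k := by
    intro x hx
    obtain ⟨k, hk⟩ := ht (Units.mk0 x hx)
    refine ⟨k, ?_⟩
    have := congrArg (fun y : Kˣ => (y : K)) hk
    simpa using this.symm
  have ht0 : (t : K) ≠ 0 := t.ne_zero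
  obtain ⟨m, hm⟩ := hgen (τ t) (by simp)
  obtain ⟨i, hi⟩ := hgen (-1) (neg_ne_zero.2 one_ne_zero)
  have h11 : (-1 : K) ≠ 1 := by
    intro h
    apply h2
    linear_combination -h
  -- `m` is odd
  have hm2 : (t : K) ^ (m * m - 1) = 1 := by
    have h3 := hinv t
    rw [hm, map_zpow₀, hm, ← zpow_mul] at h3
    rw [zpow_sub_one₀ ht0, h3, mul_inv_cancel₀ ht0]
  have hodd : ∀ k : ℤ, (t : K) ^ k = 1 → Even k := by
    intro k hk
    by_contra hko
    rw [Int.not_even_iff_odd] at hko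
    have h3 : ((-1 : K)) ^ k = 1 := by rw [hi, ← zpow_mul, mul_comm, zpow_mul, hk, one_zpow]
    rw [hko.neg_one_zpow] at h3
    exact h11 h3
  have hmo : Even (1 + m) := by
    have h3 := hodd _ hm2
    rcases Int.even_or_odd m with h4 | h4
    · exfalso
      have h5 : Odd (m * m - 1) := by
        obtain ⟨k, hk⟩ := h4
        exact ⟨2 * k * k - 1, by rw [hk]; ring⟩
      exact (Int.not_even_iff_odd.2 h5) h3
    · obtain ⟨k, hk⟩ := h4
      exact ⟨k + 1, by rw [hk]; ring⟩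
  obtain ⟨l, hl⟩ := hmo
  obtain ⟨κ, hκ⟩ : ∃ κ, κ = (t : K) ^ l := ⟨_, rfl⟩
  have hκ0 : κ ≠ 0 := by rw [hκ]; exact zpow_ne_zero _ ht0
  have hν : κ * κ = t * τ t := by
    rw [hκ, ← zpow_add₀ ht0, ← hl, hm, zpow_add₀ ht0, zpow_one]
  have hτν : τ (κ * κ) = κ * κ := by rw [hν, map_mul, hinv, mul_comm]
  -- `κ ^ 2` generates the fixed field
  have hK0 : ∀ a : K, τ a = a → a ≠ 0 → ∃ k : ℤ, a = (κ * κ) ^ k := by
    intro a ha ha0
    obtain ⟨x, hx⟩ := Cfsg.Agent.TitsThree.PQClass.norm_surj τ hinv hne ha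
    have hx0 : x ≠ 0 := by
      rintro rfl
      rw [zero_mul] at hx
      exact ha0 hx.symm
    obtain ⟨k, hk⟩ := hgen x hx0
    refine ⟨k, ?_⟩
    rw [← hx, hk, map_zpow₀, hν, mul_zpow]
  have hκτ : τ κ ≠ κ := by
    intro h3
    obtain ⟨k, hk⟩ := hK0 κ h3 hκ0
    have h4 : κ ^ (2 * k - 1) = 1 := by
      rw [zpow_sub_one₀ hκ0, two_mul, zpow_add₀ hκ0, ← mul_zpow, ← hk, mul_inv_cancel₀ hκ0]
    obtain ⟨k', hk'⟩ := hK0 (-1) (by rw [map_neg, map_one]) (neg_ne_zero.2 one_ne_zero)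
    have h5 : ((-1 : K)) ^ (2 * k - 1) = 1 := by
      rw [hk', mul_zpow, mul_zpow, ← zpow_mul, mul_comm k', zpow_mul, h4, one_zpow, one_mul]
    have h6 : Odd (2 * k - 1) := ⟨k - 1, by ring⟩
    rw [h6.neg_one_zpow] at h5
    exact h11 h5
  refine ⟨κ, hκ0, ?_, ?_, ?_⟩
  · rw [map_mul] at hτν
    rcases mul_self_eq_mul_self_iff.1 hτν with h3 | h3
    · exact absurd h3 hκτ
    · exact h3
  · intro a ha
    by_cases ha0 : a = 0
    · exact ⟨0, by rw [ha0, zero_mul]⟩
    obtain ⟨k, hk⟩ := hK0 a ha ha0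
    exact ⟨κ ^ k, by rw [hk, mul_zpow]⟩
  · intro σ hσ
    have h3 : ∀ a ∈ K0 τ, σ a = a := by
      intro a ha
      by_cases ha0 : a = 0
      · rw [ha0, map_zero]
      obtain ⟨k, hk⟩ := hK0 a ha ha0
      rw [hk, map_zpow₀, map_mul, hσ]
    rcases eq_one_or_tau hinv hκτ h3 with h4 | h4
    · exact h4
    · exact absurd ((h4 κ).symm.trans hσ) hκτ

theorem exists_t (hne : ∃ a, τ a ≠ a) (h2 : (2 : K) ≠ 0) {i : K} (hi : i * i = -1) (hτi : τ i = i) :
    ∃ t : K, t ≠ 0 ∧ t ^ 4 ≠ 1 ∧ ∀ σ : K ≃+* K, (σ t = t ∨ σ t = -t) → ∀ a, σ a = a := by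
  obtain ⟨t, ht⟩ := exists_gn K
  refine ⟨t, t.ne_zero, ?_, ?_⟩
  · intro h4
    obtain ⟨a, ha⟩ := hne
    have ha0 : a ≠ 0 := by
      rintro rfl
      exact ha (map_zero τ)
    obtain ⟨k, hk⟩ := ht (Units.mk0 a ha0)
    have hk' : a = (t : K) ^ k := by
      have := congrArg (fun y : Kˣ => (y : K)) hk
      simpa using this.symm
    have ha4 : a ^ 4 = 1 := by
      rw [hk', ← zpow_natCast, ← zpow_mul, mul_comm, zpow_mul, zpow_natCast, h4, one_zpow]
    have h5 : (a - 1) * (a + 1) * (a - i) * (a + i) = 0 := by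
      linear_combination ha4 - (a ^ 2 - 1) * hi
    apply ha
    rcases mul_eq_zero.1 h5 with h6 | h6
    · rcases mul_eq_zero.1 h6 with h7 | h7
      · rcases mul_eq_zero.1 h7 with h8 | h8
        · rw [sub_eq_zero.1 h8, map_one]
        · rw [eq_neg_of_add_eq_zero_left h8, map_neg, map_one]
      · rw [sub_eq_zero.1 h7, hτi]
    · rw [eq_neg_of_add_eq_zero_left h6, map_neg, hτi]
  · intro σ hσ
    rcases hσ with h3 | h3
    · exact fun a => Cfsg.Agent.H716.FC.sig_id ht (σ : K →+* K) h3 a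
    · exact absurd h3 (Cfsg.Agent.H716.FC.sig_neg ht h2 (σ : K →+* K))

/-- a square root of an element of norm one -/
theorem exists_sqrt (hinv : ∀ a, τ (τ a) = a) (hne : ∃ a, τ a ≠ a) (h2 : (2 : K) ≠ 0) {c : K} (hc : c * τ c = 1) :
    ∃ d, d ≠ 0 ∧ c = d * d := by
  obtain ⟨κ, hκ0, hκ, hsq, -⟩ := exists_kappa hinv hne h2
  have hc0 : c ≠ 0 := left_ne_zero_of_mul_eq_one hc
  obtain ⟨e, he0, he⟩ : ∃ e, e ≠ 0 ∧ c * τ e = e := by
    by_cases h1 : c = -1
    · exact ⟨κ, hκ0, by rw [h1, hκ]; ring⟩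
    · refine ⟨1 + c, fun h3 => h1 ?_, ?_⟩
      · linear_combination h3
      · rw [map_add, map_one, mul_add, hc]; ring
  obtain ⟨n, hn⟩ := hsq (e * τ e) (by rw [map_mul, hinv, mul_comm])
  have hτe : τ e ≠ 0 := by simpa using he0
  have hn0 : n ≠ 0 := by
    rintro rfl
    rw [mul_zero] at hn
    exact mul_ne_zero he0 hτe hn
  refine ⟨e / n, div_ne_zero he0 hn0, ?_⟩
  have h3 : c * (n * n) = e * e := by rw [← hn]; linear_combination e * he
  field_simp
  linear_combination h3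

end field

/-! ### lifts -/

section lifts

variable {K : Type u} [Field K] {V : Type v} [AddCommGroup V] [Module K V] {b : Cl K V}
  {S A : Subgroup (Equiv.Perm (R K V))}

/-- an involution multiplying the form by `m = ± 1` -/
def Iv (b : Cl K V) (x : (R K V)ˣ) (m : K) : Prop :=
  (x : R K V) * x = 1 ∧ (m = 1 ∨ m = -1) ∧ ∀ v w, b.B ((x : R K V) v) ((x : R K V) w) = m * b.B v w

theorem Iv.app {x : (R K V)ˣ} {m : K} (h : Iv b x m) (v : V) : (x : R K V) ((x : R K V) v) = v := by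
  rw [← Module.End.mul_apply, h.1, Module.End.one_apply]

theorem Iv.sgn {x : (R K V)ˣ} {m : K} (h : Iv b x m) : m * m = 1 := by
  rcases h.2.1 with rfl | rfl <;> ring

theorem pm_mul {m m' : K} (h : m = 1 ∨ m = -1) (h' : m' = 1 ∨ m' = -1) : m * m' = 1 ∨ m * m' = -1 := by
  rcases h with rfl | rfl <;> rcases h' with rfl | rfl
  · left; ring
  · right; ring
  · right; ring
  · left; ring

theorem Iv.mul {x y : (R K V)ˣ} {m m' : K} (h : Iv b x m) (h' : Iv b y m') (hc : (x : R K V) * y = y * x) :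
    Iv b (x * y) (m * m') := by
  refine ⟨?_, pm_mul h.2.1 h'.2.1, fun v w => ?_⟩
  · rw [Units.val_mul]
    calc (x : R K V) * y * (x * y) = x * (y * x) * y := by simp only [mul_assoc]
      _ = x * (x * y) * y := by rw [← hc]
      _ = (x * x) * (y * y) := by simp only [mul_assoc]
      _ = 1 := by rw [h.1, h'.1, one_mul]
  · rw [Units.val_mul, Module.End.mul_apply, Module.End.mul_apply, h.2.2, h'.2.2, mul_assoc]

theorem Iv.mul_anti {x y : (R K V)ˣ} {m m' : K} (h : Iv b x m) (h' : Iv b y m') (hc : (x : R K V) * y = -(y * x))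
    {i : K} (hi0 : i ≠ 0) (hi : i * i = -1) {n : K} (hn : i * b.τ i = n) (hn' : n = 1 ∨ n = -1) :
    Iv b (scU i hi0 * (x * y)) (n * (m * m')) := by
  have hv : ((scU i hi0 * (x * y) : (R K V)ˣ) : R K V) = i • ((x : R K V) * y) := by
    rw [Units.val_mul, Units.val_mul]
    show (i • (1 : R K V)) * _ = _
    rw [smul_mul_assoc, one_mul]
  refine ⟨?_, pm_mul hn' (pm_mul h.2.1 h'.2.1), fun v w => ?_⟩
  · rw [hv, smul_mul_smul_comm, hi]
    have h1 : (x : R K V) * y * (x * y) = -1 := by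
      calc (x : R K V) * y * (x * y) = x * (y * x) * y := by simp only [mul_assoc]
        _ = x * (-(x * y)) * y := by rw [hc, neg_neg]
        _ = -((x * x) * (y * y)) := by simp only [mul_neg, neg_mul, mul_assoc]
        _ = -1 := by rw [h.1, h'.1, one_mul]
    rw [h1, neg_smul, one_smul, neg_neg]
  · rw [hv, LinearMap.smul_apply, LinearMap.smul_apply, b.smul_left, b.smul_right, Module.End.mul_apply,
      Module.End.mul_apply, h.2.2, h'.2.2, ← hn]
    ring

variable [Finite K] [Module.Finite K V] {a : ℕ}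

/-- **normalised lifts** -/
theorem exists_lift (hU : b.IsU) (h2 : (2 : K) ≠ 0) (h : C6Data S A 2 a) (hSb : S ≤ RB b) {y : (R K V)ˣ}
    (hy : y ∈ Hat A) : ∃ x ∈ Hat A, ∃ κ : K, κ ≠ 0 ∧ (x : R K V) = κ • (y : R K V) ∧ ∃ m, Iv b x m := by
  have := nontrivial_of h
  have hyb : cj K V y ∈ RB b := hSb (h.2.2.2.1 hy)
  obtain ⟨y', hiso, hcj⟩ := Cfsg.Agent.H961.FC.exists_isom b hU hyb
  have hy' : y' ∈ Hat A := by rw [mem_Hat, hcj]; exact hy
  obtain ⟨c, hc⟩ := pow_scal h hy'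
  have hcc : (y' : R K V) * y' = c • (1 : R K V) := by
    rw [← hc, Units.val_pow_eq_pow_val, pow_two]
  obtain ⟨v, w, hvw⟩ := Cfsg.Agent.H961.FC.exists_B_ne b
  have hc1 : c * b.τ c = 1 := by
    have h3 := hiso ((y' : R K V) v) ((y' : R K V) w)
    rw [hiso v w, ← Module.End.mul_apply, ← Module.End.mul_apply, hcc, LinearMap.smul_apply, LinearMap.smul_apply,
      Module.End.one_apply, Module.End.one_apply, b.smul_left, b.smul_right] at h3
    have h4 : (c * b.τ c - 1) * b.B v w = 0 := by linear_combination h3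
    exact sub_eq_zero.1 ((mul_eq_zero.1 h4).resolve_right hvw)
  obtain ⟨d, hd0, hd⟩ := exists_sqrt b.invol hU.1 h2 hc1
  have hdi : d⁻¹ ≠ 0 := inv_ne_zero hd0
  have hτd : b.τ d ≠ 0 := by simpa using hd0
  have hv : ((scU d⁻¹ hdi * y' : (R K V)ˣ) : R K V) = d⁻¹ • (y' : R K V) := by
    rw [Units.val_mul]
    show (d⁻¹ • (1 : R K V)) * _ = _
    rw [smul_mul_assoc, one_mul]
  obtain ⟨κ, hκ0, hκ⟩ := cj_eq hcj
  refine ⟨scU d⁻¹ hdi * y', mul_mem (scU_mem_Hat A _ _) hy', d⁻¹ * κ, mul_ne_zero hdi hκ0, ?_, d⁻¹ * b.τ d⁻¹, ?_, ?_,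
    fun v w => ?_⟩
  · rw [hv, hκ, smul_smul]
  · rw [hv, smul_mul_smul_comm, hcc, smul_smul, hd]
    have h3 : d⁻¹ * d⁻¹ * (d * d) = 1 := by field_simp
    rw [h3, one_smul]
  · have h3 : (d⁻¹ * b.τ d⁻¹) * (d⁻¹ * b.τ d⁻¹) = 1 := by
      rw [map_inv₀]
      rw [hd, map_mul] at hc1
      field_simp
      linear_combination -hc1
    exact mul_self_eq_one_iff.1 h3
  · rw [hv, LinearMap.smul_apply, LinearMap.smul_apply, b.smul_left, b.smul_right, hiso]
    ring

omit [Finite K] [Module.Finite K V] in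
theorem comm_or (h : C6Data S A 2 a) {x y : (R K V)ˣ} (hx : x ∈ Hat A) (hy : y ∈ Hat A) :
    (x : R K V) * y = y * x ∨ (x : R K V) * y = -(y * x) := by
  have := nontrivial_of h
  obtain ⟨c, hc0, hc⟩ := comm_smul h hx hy
  obtain ⟨d, hd⟩ := pow_scal h hx
  have h1 := Cfsg.Agent.H706.FC.zeta_sq hc (c := d) (by rw [← hd, Units.val_pow_eq_pow_val, pow_two])
  rcases mul_self_eq_one_iff.1 h1 with h3 | h3
  · left; rw [hc, h3, one_smul]
  · right; rw [hc, h3, neg_smul, one_smul]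

omit [Finite K] [Module.Finite K V] in
theorem exists_anti (h : C6Data S A 2 a) {x : (R K V)ˣ} (hx : x ∈ Hat A) (hns : ¬ Scal x) :
    ∃ y ∈ Hat A, (x : R K V) * y = -(y * x) := by
  obtain ⟨y, hy, c, hc1, hc2, hc⟩ := exists_conj h hx hns
  refine ⟨y, hy, ?_⟩
  rw [pow_two] at hc2
  rcases mul_self_eq_one_iff.1 hc2 with h3 | h3
  · exact absurd h3 hc1
  · rw [hc, h3, neg_smul, one_smul]

omit [Finite K] [Module.Finite K V] in
/-- adjustment: a multiple commuting with a given hyperbolic pair -/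
theorem adjust (h : C6Data S A 2 a) {Z X y : (R K V)ˣ} (hZ : Z ∈ Hat A) (hX : X ∈ Hat A) (hy : y ∈ Hat A)
    (hZX : (Z : R K V) * X = -(X * Z)) : ∃ P : (R K V)ˣ, (P = 1 ∨ P = X ∨ P = Z ∨ P = X * Z) ∧
      ((y * P : (R K V)ˣ) : R K V) * Z = Z * (y * P : (R K V)ˣ) ∧
      ((y * P : (R K V)ˣ) : R K V) * X = X * (y * P : (R K V)ˣ) := by
  rcases comm_or h hy hZ with h1 | h1 <;> rcases comm_or h hy hX with h3 | h3
  · exact ⟨1, Or.inl rfl, by rw [mul_one]; exact h1, by rw [mul_one]; exact h3⟩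
  · refine ⟨Z, Or.inr (Or.inr (Or.inl rfl)), ?_, ?_⟩
    · rw [Units.val_mul, h1, mul_assoc, h1]
    · rw [Units.val_mul, mul_assoc, hZX, mul_neg, ← mul_assoc, h3, neg_mul, neg_neg, mul_assoc]
  · refine ⟨X, Or.inr (Or.inl rfl), ?_, ?_⟩
    · have h5 : (X : R K V) * Z = -(Z * X) := by rw [hZX, neg_neg]
      rw [Units.val_mul, mul_assoc, h5, mul_neg, ← mul_assoc, h1, neg_mul, neg_neg, mul_assoc]
    · rw [Units.val_mul, h3, mul_assoc, h3]
  · have h5 : (X : R K V) * Z = -(Z * X) := by rw [hZX, neg_neg]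
    refine ⟨X * Z, Or.inr (Or.inr (Or.inr rfl)), ?_, ?_⟩
    · rw [Units.val_mul, Units.val_mul]
      calc (y : R K V) * (X * Z) * Z = y * (-(Z * X)) * Z := by rw [h5]
        _ = -(y * Z) * (X * Z) := by simp only [mul_neg, neg_mul, mul_assoc]
        _ = Z * y * (X * Z) := by rw [h1, neg_neg]
        _ = _ := by simp only [mul_assoc]
    · rw [Units.val_mul, Units.val_mul]
      calc (y : R K V) * (X * Z) * X = y * X * (Z * X) := by simp only [mul_assoc]
        _ = (-(X * y)) * (-(X * Z)) := by rw [h3, hZX]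
        _ = X * (y * (X * Z)) := by simp only [mul_neg, neg_mul, neg_neg, mul_assoc]

omit [Finite K] [Module.Finite K V] in
/-- a second hyperbolic pair -/
theorem exists_plane (h : C6Data S A 2 2) {Z X : (R K V)ˣ} (hZ : Z ∈ Hat A) (hX : X ∈ Hat A)
    (hZX : (Z : R K V) * X = -(X * Z)) : ∃ c ∈ Hat A, ∃ d ∈ Hat A, (c : R K V) * d = -(d * c) ∧
      (c : R K V) * Z = Z * c ∧ (c : R K V) * X = X * c ∧ (d : R K V) * Z = Z * d ∧ (d : R K V) * X = X * d := by
  classical
  have := nontrivial_of h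
  have hP : ∀ P : (R K V)ˣ, (P = 1 ∨ P = X ∨ P = Z ∨ P = X * Z) → P ∈ Hat A := by
    rintro P (rfl | rfl | rfl | rfl)
    · exact one_mem _
    · exact hX
    · exact hZ
    · exact mul_mem hX hZ
  obtain ⟨c, hc, hcs, hcZ, hcX⟩ : ∃ c ∈ Hat A, ¬ Scal c ∧ (c : R K V) * Z = Z * c ∧ (c : R K V) * X = X * c := by
    by_contra hcon
    push Not at hcon
    let Ps : Fin 4 → (R K V)ˣ := ![1, X, Z, X * Z]
    have hPs : ∀ i, Ps i ∈ Hat A := fun i => hP _ (by
      fin_cases i
      · exact Or.inl rfl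
      · exact Or.inr (Or.inl rfl)
      · exact Or.inr (Or.inr (Or.inl rfl))
      · exact Or.inr (Or.inr (Or.inr rfl)))
    let F : Fin 4 → A := fun i => ⟨(cj K V (Ps i))⁻¹, inv_mem (hPs i)⟩
    have hF : Function.Surjective F := by
      rintro ⟨f, hf⟩
      obtain ⟨y, hy⟩ := h.2.2.2.2.1 hf
      have hyA : y ∈ Hat A := by rw [mem_Hat, hy]; exact hf
      obtain ⟨P, hP', h3, h4⟩ := adjust h hZ hX hyA hZX
      obtain ⟨i, hi⟩ : ∃ i, Ps i = P := by
        rcases hP' with rfl | rfl | rfl | rfl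
        · exact ⟨0, rfl⟩
        · exact ⟨1, rfl⟩
        · exact ⟨2, rfl⟩
        · exact ⟨3, rfl⟩
      refine ⟨i, Subtype.ext ?_⟩
      have h5 : Scal (y * P) := by
        by_contra h6
        exact hcon _ (mul_mem hyA (hP P hP')) h6 h3 h4
      have h6 := cj_of_scal h5
      show (cj K V (Ps i))⁻¹ = f
      rw [map_mul, hy] at h6
      rw [hi]
      exact (eq_inv_of_mul_eq_one_left h6).symm
    have h3 := Nat.card_le_card_of_surjective F hF
    rw [h.2.2.2.2.2.1, Nat.card_eq_fintype_card, Fintype.card_fin] at h3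
    norm_num at h3
  obtain ⟨d, hd, hcd⟩ := exists_anti h hc hcs
  obtain ⟨P, hP', h3, h4⟩ := adjust h hZ hX hd hZX
  refine ⟨c, hc, d * P, mul_mem hd (hP P hP'), ?_, hcZ, hcX, h3, h4⟩
  have h5 : (c : R K V) * P = P * c := by
    rcases hP' with rfl | rfl | rfl | rfl
    · rw [Units.val_one, mul_one, one_mul]
    · exact hcX
    · exact hcZ
    · rw [Units.val_mul, ← mul_assoc, hcX, mul_assoc, hcZ, mul_assoc]
  rw [Units.val_mul, ← mul_assoc, hcd, neg_mul, mul_assoc, h5, mul_assoc]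

end lifts

section quad

variable {K : Type u} [Field K] {V : Type v} [AddCommGroup V] [Module K V] {b : Cl K V}
  {S A : Subgroup (Equiv.Perm (R K V))}

theorem scU_mul_val {i : K} (hi0 : i ≠ 0) (x : (R K V)ˣ) :
    ((scU i hi0 * x : (R K V)ˣ) : R K V) = i • (x : R K V) := by
  rw [Units.val_mul]
  show (i • (1 : R K V)) * _ = _
  rw [smul_mul_assoc, one_mul]

theorem not_scal_of_anti [Nontrivial V] (h2 : (2 : K) ≠ 0) {x y : (R K V)ˣ} (h : (x : R K V) * y = -(y * x)) :
    ¬ Scal x := by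
  rintro ⟨c, hc⟩
  rw [hc, smul_mul_assoc, one_mul, mul_smul_comm, mul_one] at h
  have h3 : (2 * c) • (y : R K V) = 0 := by
    rw [two_mul, add_smul]
    nth_rewrite 1 [h]
    exact neg_add_cancel _
  rcases smul_eq_zero.1 h3 with h4 | h4
  · have hc0 : c = 0 := (mul_eq_zero.1 h4).resolve_left h2
    rw [hc0, zero_smul] at hc
    exact x.ne_zero hc
  · exact y.ne_zero h4

theorem Iv.inv_eq {x : (R K V)ˣ} {m : K} (h : Iv b x m) : x⁻¹ = x := by
  have h1 : x * x = 1 := Units.ext (by rw [Units.val_mul]; exact h.1)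
  exact inv_eq_of_mul_eq_one_left h1

theorem Iv.fu_one {x : (R K V)ˣ} (h : Iv b x 1) {g : Equiv.Perm (R K V)} (hg : g ∈ RB b) :
    Iv b (Cfsg.Agent.H706.FC.fu hg.1 x) 1 := by
  have h3 : (Cfsg.Agent.H706.FC.fu hg.1 x : R K V) * (Cfsg.Agent.H706.FC.fu hg.1 x : R K V) = 1 := by
    rw [Cfsg.Agent.H706.FC.fu_val, ← hg.1.2, h.1, Cfsg.Agent.H706.FC.RP_map_one hg.1]
  have h4 : b.Adj (x : R K V) (x : R K V) := by
    intro v w
    have h5 := h.2.2 v ((x : R K V) w)
    rw [h.app, one_mul] at h5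
    exact h5
  have h5 := (Cfsg.Agent.H706.FC.RB_adj hg _ _).1 h4
  refine ⟨h3, Or.inl rfl, fun v w => ?_⟩
  rw [Cfsg.Agent.H706.FC.fu_val, h5, one_mul, ← Module.End.mul_apply, ← Cfsg.Agent.H706.FC.fu_val hg.1 x, h3,
    Module.End.one_apply]

variable [Finite K] [Module.Finite K V] {a : ℕ}

omit [Finite K] [Module.Finite K V] in
theorem exists_nonscal (h : C6Data S A 2 a) : ∃ x ∈ Hat A, ¬ Scal x := by
  by_contra hcon
  push Not at hcon
  have hA : A = ⊥ := by
    rw [eq_bot_iff]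
    intro f hf
    obtain ⟨x, hx⟩ := h.2.2.2.2.1 hf
    have h1 := hcon x (by rw [mem_Hat, hx]; exact hf)
    rw [Subgroup.mem_bot, ← hx]
    exact cj_of_scal h1
  have h1 := h.2.2.2.2.2.1
  rw [hA] at h1
  have h2 : Nat.card (⊥ : Subgroup (Equiv.Perm (R K V))) = 1 := by simp
  rw [h2] at h1
  have h3 := h.2.1
  have h4 : 1 < 2 ^ (2 * a) := Nat.one_lt_pow (by omega) (by norm_num)
  omega

/-- **all lifts are isometries if `τ i = - i`** -/
theorem all_one (hU : b.IsU) (h2 : (2 : K) ≠ 0) (h : C6Data S A 2 a) (hSb : S ≤ RB b) {i : K} (hi : i * i = -1)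
    (hτi : b.τ i = -i) {x : (R K V)ˣ} (hx : x ∈ Hat A) {m : K} (hm : Iv b x m) : m = 1 := by
  have := nontrivial_of h
  have hi0 : i ≠ 0 := by
    rintro rfl
    rw [mul_zero] at hi
    exact neg_ne_zero.2 one_ne_zero hi.symm
  have hn : i * b.τ i = 1 := by rw [hτi, mul_neg, hi, neg_neg]
  let B : Subgroup (Equiv.Perm (R K V)) :=
    { carrier := {f | ∃ x ∈ Hat A, Iv b x 1 ∧ cj K V x = f}
      one_mem' := by
        refine ⟨1, one_mem _, ⟨?_, Or.inl rfl, fun v w => ?_⟩, map_one _⟩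
        · rw [Units.val_one, mul_one]
        · rw [one_mul]; rfl
      mul_mem' := by
        rintro f g ⟨x, hx, hx1, rfl⟩ ⟨y, hy, hy1, rfl⟩
        rcases comm_or h hx hy with h3 | h3
        · refine ⟨x * y, mul_mem hx hy, ?_, map_mul _ _ _⟩
          have h4 := hx1.mul hy1 h3
          rwa [mul_one] at h4
        · refine ⟨scU i hi0 * (x * y), mul_mem (scU_mem_Hat A _ _) (mul_mem hx hy), ?_, ?_⟩
          · have h4 := hx1.mul_anti hy1 h3 hi0 hi hn (Or.inl rfl)
            rwa [mul_one, mul_one] at h4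
          · rw [map_mul, cj_of_scal (⟨i, rfl⟩ : Scal (scU i hi0)), one_mul, map_mul]
      inv_mem' := by
        rintro f ⟨x, hx, hx1, rfl⟩
        exact ⟨x, hx, hx1, by rw [← map_inv, hx1.inv_eq]⟩ }
  have hBA : B ≤ A := by
    rintro f ⟨x, hx, -, rfl⟩
    exact hx
  have hBS : ∀ g ∈ S, ∀ f ∈ B, g * f * g⁻¹ ∈ B := by
    rintro g hg f ⟨x, hx, hx1, rfl⟩
    have h3 : cj K V (Cfsg.Agent.H706.FC.fu (hSb hg).1 x) = g * cj K V x * g⁻¹ := by
      rw [Cfsg.Agent.H706.FC.f_cj (hSb hg).1 x, mul_inv_cancel_right]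
    refine ⟨Cfsg.Agent.H706.FC.fu (hSb hg).1 x, ?_, hx1.fu_one (hSb hg), h3⟩
    rw [mem_Hat, h3]
    exact h.2.2.2.2.2.2.2.2.2.1 g hg _ hx
  rcases h.2.2.2.2.2.2.2.2.2.2 B hBA hBS with h3 | h3
  · exfalso
    obtain ⟨x₀, hx₀, hns⟩ := exists_nonscal h
    obtain ⟨y₀, hy₀, hxy₀⟩ := exists_anti h hx₀ hns
    obtain ⟨x, hx, κ, hκ0, hxκ, m, hxm⟩ := exists_lift hU h2 h hSb hx₀
    obtain ⟨y, hy, κ', hκ'0, hyκ, m', hym⟩ := exists_lift hU h2 h hSb hy₀
    have hxy : (x : R K V) * y = -(y * x) := by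
      rw [hxκ, hyκ, smul_mul_smul_comm, smul_mul_smul_comm, hxy₀, mul_comm κ', smul_neg]
    have hbot : ∀ z ∈ Hat A, Iv b z 1 → Scal z := by
      intro z hz hz1
      have h4 : cj K V z ∈ B := ⟨z, hz, hz1, rfl⟩
      rw [h3, Subgroup.mem_bot] at h4
      exact scal_of_cj h4
    have hx' : ¬ Scal x := not_scal_of_anti h2 hxy
    have hy' : ¬ Scal y := not_scal_of_anti h2 (by rw [hxy, neg_neg] : (y : R K V) * x = -(x * y))
    rcases hxm.2.1 with rfl | rfl
    · exact hx' (hbot x hx hxm)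
    rcases hym.2.1 with rfl | rfl
    · exact hy' (hbot y hy hym)
    have h4 := hxm.mul_anti hym hxy hi0 hi hn (Or.inl rfl)
    have h5 : (1 : K) * (-1 * -1) = 1 := by ring
    rw [h5] at h4
    have h6 := hbot _ (mul_mem (scU_mem_Hat A _ _) (mul_mem hx hy)) h4
    refine not_scal_of_anti (x := scU i hi0 * (x * y)) (y := y) h2 ?_ h6
    rw [scU_mul_val, Units.val_mul, smul_mul_assoc, mul_smul_comm, ← smul_neg]
    congr 1
    rw [← mul_assoc (y : R K V), mul_assoc, ← neg_mul, ← hxy, mul_assoc]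
  · have h4 : cj K V x ∈ B := by rw [h3]; exact hx
    obtain ⟨x', hx', hx1, hc⟩ := h4
    obtain ⟨κ, hκ0, hκ⟩ := cj_eq hc.symm
    have h5 : κ * κ = 1 := by
      have h6 := hm.1
      have h7 := hx1.1
      rw [hκ, smul_mul_smul_comm, h7] at h6
      have h8 : (κ * κ) • (1 : R K V) = (1 : K) • 1 := by rw [h6, one_smul]
      exact smul_one_inj h8
    obtain ⟨v, w, hvw⟩ := Cfsg.Agent.H961.FC.exists_B_ne b
    have h6 := hm.2.2 v w
    rw [hκ, LinearMap.smul_apply, LinearMap.smul_apply, b.smul_left, b.smul_right, hx1.2.2, one_mul] at h6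
    have h7 : κ * b.τ κ = 1 := by
      rcases mul_self_eq_one_iff.1 h5 with h8 | h8
      · rw [h8, map_one, mul_one]
      · rw [h8, map_neg, map_one]; ring
    have h8 : (m - 1) * b.B v w = 0 := by linear_combination (-h6) + b.B v w * h7
    exact sub_eq_zero.1 ((mul_eq_zero.1 h8).resolve_right hvw)

/-- the frame -/
structure Quad (b : Cl K V) (A : Subgroup (Equiv.Perm (R K V))) (Z1 X1 Z2 X2 : (R K V)ˣ) (m : K) : Prop where
  hZ1 : Z1 ∈ Hat A
  hX1 : X1 ∈ Hat A
  hZ2 : Z2 ∈ Hat A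
  hX2 : X2 ∈ Hat A
  iZ1 : Iv b Z1 1
  iX1 : Iv b X1 1
  iZ2 : Iv b Z2 m
  iX2 : Iv b X2 m
  a1 : (Z1 : R K V) * X1 = -(X1 * Z1)
  a2 : (Z2 : R K V) * X2 = -(X2 * Z2)
  c1 : (Z1 : R K V) * Z2 = Z2 * Z1
  c2 : (Z1 : R K V) * X2 = X2 * Z1
  c3 : (X1 : R K V) * Z2 = Z2 * X1
  c4 : (X1 : R K V) * X2 = X2 * X1

omit [Finite K] [Module.Finite K V] in
/-- adjusting a pair -/
theorem pair_adj {i : K} (hi0 : i ≠ 0) (hi : i * i = -1) (hτi : b.τ i = i) {Z X : (R K V)ˣ} (hZ : Z ∈ Hat A)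
    (hX : X ∈ Hat A) {m m' : K} (iZ : Iv b Z m) (iX : Iv b X m') (hZX : (Z : R K V) * X = -(X * Z))
    (hm : ¬ (m = -1 ∧ m' = -1)) : ∃ Z' ∈ Hat A, ∃ X' ∈ Hat A, (Z' : R K V) * X' = -(X' * Z') ∧ Iv b Z' 1 ∧
      Iv b X' 1 ∧ ∀ y : (R K V)ˣ, (y : R K V) * Z = Z * y → (y : R K V) * X = X * y →
        (y : R K V) * Z' = Z' * y ∧ (y : R K V) * X' = X' * y := by
  have hn : i * b.τ i = -1 := by rw [hτi, hi]
  have hc : ∀ y : (R K V)ˣ, (y : R K V) * Z = Z * y → (y : R K V) * X = X * y →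
      (y : R K V) * (scU i hi0 * (Z * X) : (R K V)ˣ) = (scU i hi0 * (Z * X) : (R K V)ˣ) * y := by
    intro y h1 h3
    rw [scU_mul_val, Units.val_mul, mul_smul_comm, smul_mul_assoc, ← mul_assoc, h1, mul_assoc, h3, mul_assoc]
  have hXZ : (X : R K V) * Z = -(Z * X) := by rw [hZX, neg_neg]
  rcases iZ.2.1 with rfl | rfl <;> rcases iX.2.1 with rfl | rfl
  · exact ⟨Z, hZ, X, hX, hZX, iZ, iX, fun y h1 h3 => ⟨h1, h3⟩⟩
  · refine ⟨Z, hZ, scU i hi0 * (Z * X), mul_mem (scU_mem_Hat A _ _) (mul_mem hZ hX), ?_, iZ, ?_,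
      fun y h1 h3 => ⟨h1, hc y h1 h3⟩⟩
    · rw [scU_mul_val, Units.val_mul, smul_mul_assoc, mul_smul_comm, ← smul_neg]
      congr 1
      rw [mul_assoc, hXZ, mul_neg, neg_neg]
    · have h4 := iZ.mul_anti iX hZX hi0 hi hn (Or.inr rfl)
      have h5 : (-1 : K) * (1 * -1) = 1 := by ring
      rwa [h5] at h4
  · refine ⟨scU i hi0 * (Z * X), mul_mem (scU_mem_Hat A _ _) (mul_mem hZ hX), X, hX, ?_, ?_, iX,
      fun y h1 h3 => ⟨hc y h1 h3, h3⟩⟩
    · rw [scU_mul_val, Units.val_mul, smul_mul_assoc, mul_smul_comm, ← smul_neg]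
      congr 1
      rw [← mul_assoc, hXZ, neg_mul, neg_neg]
    · have h4 := iZ.mul_anti iX hZX hi0 hi hn (Or.inr rfl)
      have h5 : (-1 : K) * (-1 * 1) = 1 := by ring
      rwa [h5] at h4
  · exact absurd ⟨rfl, rfl⟩ hm

/-- **the frame** -/
theorem exists_quad (hU : b.IsU) (h2 : (2 : K) ≠ 0) (h : C6Data S A 2 2) (hSb : S ≤ RB b) :
    ∃ Z1 X1 Z2 X2 : (R K V)ˣ, Quad b A Z1 X1 Z2 X2 1 ∨
      (Quad b A Z1 X1 Z2 X2 (-1) ∧ ∃ i : K, i * i = -1 ∧ b.τ i = i) := by
  have := nontrivial_of h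
  obtain ⟨κ, -, -, hsq, -⟩ := exists_kappa b.invol hU.1 h2
  obtain ⟨i, hi⟩ := hsq (-1) (by rw [map_neg, map_one])
  replace hi : i * i = -1 := hi.symm
  have hi0 : i ≠ 0 := by
    rintro rfl
    rw [mul_zero] at hi
    exact neg_ne_zero.2 one_ne_zero hi.symm
  have hτ : b.τ i = i ∨ b.τ i = -i := by
    apply mul_self_eq_mul_self_iff.1
    rw [← map_mul, hi, map_neg, map_one]
  -- pairs of lifts
  have hlift : ∀ z ∈ Hat A, ∀ x ∈ Hat A, (z : R K V) * x = -(x * z) → ∃ Z ∈ Hat A, ∃ X ∈ Hat A,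
      (Z : R K V) * X = -(X * Z) ∧ (∃ m, Iv b Z m) ∧ (∃ m, Iv b X m) ∧ ∀ y : (R K V)ˣ, (z : R K V) * y = y * z →
        (x : R K V) * y = y * x → (Z : R K V) * y = y * Z ∧ (X : R K V) * y = y * X := by
    intro z hz x hx hzx
    obtain ⟨Z, hZ, c, -, hZc, mZ⟩ := exists_lift hU h2 h hSb hz
    obtain ⟨X, hX, d, -, hXd, mX⟩ := exists_lift hU h2 h hSb hx
    refine ⟨Z, hZ, X, hX, ?_, mZ, mX, fun y h1 h3 => ⟨?_, ?_⟩⟩
    · rw [hZc, hXd, smul_mul_smul_comm, smul_mul_smul_comm, hzx, mul_comm c, smul_neg]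
    · rw [hZc, smul_mul_assoc, mul_smul_comm, h1]
    · rw [hXd, smul_mul_assoc, mul_smul_comm, h3]
  obtain ⟨x₀, hx₀, hns⟩ := exists_nonscal h
  obtain ⟨y₀, hy₀, hxy₀⟩ := exists_anti h hx₀ hns
  obtain ⟨Z, hZ, X, hX, hZX, ⟨m, iZ⟩, ⟨m', iX⟩, -⟩ := hlift _ hx₀ _ hy₀ hxy₀
  -- the second plane
  have hsec : ∀ Z ∈ Hat A, ∀ X ∈ Hat A, (Z : R K V) * X = -(X * Z) → ∃ Z2 ∈ Hat A, ∃ X2 ∈ Hat A,
      (Z2 : R K V) * X2 = -(X2 * Z2) ∧ (∃ m, Iv b Z2 m) ∧ (∃ m, Iv b X2 m) ∧ (Z : R K V) * Z2 = Z2 * Z ∧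
        (Z : R K V) * X2 = X2 * Z ∧ (X : R K V) * Z2 = Z2 * X ∧ (X : R K V) * X2 = X2 * X := by
    intro Z hZ X hX hZX
    obtain ⟨c, hc, d, hd, hcd, h1, h3, h4, h5⟩ := exists_plane h hZ hX hZX
    obtain ⟨Z2, hZ2, cc, -, hZc, mZ⟩ := exists_lift hU h2 h hSb hc
    obtain ⟨X2, hX2, dd, -, hXd, mX⟩ := exists_lift hU h2 h hSb hd
    refine ⟨Z2, hZ2, X2, hX2, ?_, mZ, mX, ?_, ?_, ?_, ?_⟩
    · rw [hZc, hXd, smul_mul_smul_comm, smul_mul_smul_comm, hcd, mul_comm cc, smul_neg]
    · rw [hZc, smul_mul_assoc, mul_smul_comm, h1]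
    · rw [hXd, smul_mul_assoc, mul_smul_comm, h4]
    · rw [hZc, smul_mul_assoc, mul_smul_comm, h3]
    · rw [hXd, smul_mul_assoc, mul_smul_comm, h5]
  rcases hτ with hτ | hτ
  swap
  · obtain ⟨Z2, hZ2, X2, hX2, a2, ⟨m2, iZ2⟩, ⟨m2', iX2⟩, c1, c2, c3, c4⟩ := hsec Z hZ X hX hZX
    have e1 := all_one hU h2 h hSb hi hτ hZ iZ
    have e2 := all_one hU h2 h hSb hi hτ hX iX
    have e3 := all_one hU h2 h hSb hi hτ hZ2 iZ2
    have e4 := all_one hU h2 h hSb hi hτ hX2 iX2
    subst e1 e2 e3 e4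
    exact ⟨Z, X, Z2, X2, Or.inl ⟨hZ, hX, hZ2, hX2, iZ, iX, iZ2, iX2, hZX, a2, c1, c2, c3, c4⟩⟩
  · -- a pair of isometries
    obtain ⟨Z1, hZ1, X1, hX1, a1, iZ1, iX1⟩ : ∃ Z1 ∈ Hat A, ∃ X1 ∈ Hat A, (Z1 : R K V) * X1 = -(X1 * Z1) ∧
        Iv b Z1 1 ∧ Iv b X1 1 := by
      by_cases hmm : m = -1 ∧ m' = -1
      · obtain ⟨rfl, rfl⟩ := hmm
        obtain ⟨Z2, hZ2, X2, hX2, a2, ⟨m2, iZ2⟩, ⟨m2', iX2⟩, c1, c2, c3, c4⟩ := hsec Z hZ X hX hZX
        by_cases hmm : m2 = -1 ∧ m2' = -1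
        · obtain ⟨rfl, rfl⟩ := hmm
          have h3 := iZ.mul iZ2 c1
          have h4 : (-1 : K) * -1 = 1 := by ring
          rw [h4] at h3
          have h5 : ((Z * Z2 : (R K V)ˣ) : R K V) * X = -(X * (Z * Z2 : (R K V)ˣ)) := by
            rw [Units.val_mul, mul_assoc, ← c3, ← mul_assoc, hZX, neg_mul, mul_assoc]
          obtain ⟨Z', hZ', X', hX', h6, h7, h8, -⟩ := pair_adj hi0 hi hτ (mul_mem hZ hZ2) hX h3 iX h5 (by
            rintro ⟨h6, -⟩
            apply h2
            linear_combination h6)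
          exact ⟨Z', hZ', X', hX', h6, h7, h8⟩
        · obtain ⟨Z', hZ', X', hX', h6, h7, h8, -⟩ := pair_adj hi0 hi hτ hZ2 hX2 iZ2 iX2 a2 hmm
          exact ⟨Z', hZ', X', hX', h6, h7, h8⟩
      · obtain ⟨Z', hZ', X', hX', h6, h7, h8, -⟩ := pair_adj hi0 hi hτ hZ hX iZ iX hZX hmm
        exact ⟨Z', hZ', X', hX', h6, h7, h8⟩
    obtain ⟨Z2, hZ2, X2, hX2, a2, ⟨m2, iZ2⟩, ⟨m2', iX2⟩, c1, c2, c3, c4⟩ := hsec Z1 hZ1 X1 hX1 a1
    by_cases hmm : m2 = -1 ∧ m2' = -1
    · obtain ⟨rfl, rfl⟩ := hmm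
      exact ⟨Z1, X1, Z2, X2, Or.inr ⟨⟨hZ1, hX1, hZ2, hX2, iZ1, iX1, iZ2, iX2, a1, a2, c1, c2, c3, c4⟩, i, hi, hτ⟩⟩
    · obtain ⟨Z', hZ', X', hX', h6, h7, h8, h9⟩ := pair_adj hi0 hi hτ hZ2 hX2 iZ2 iX2 a2 hmm
      obtain ⟨d1, d2⟩ := h9 Z1 c1 c2
      obtain ⟨d3, d4⟩ := h9 X1 c3 c4
      exact ⟨Z1, X1, Z', X', Or.inl ⟨hZ1, hX1, hZ', hX', iZ1, iX1, h7, h8, a1, h6, d1, d2, d3, d4⟩⟩

end quad

/-! ### signs and shifts -/

/-- a sign -/
def sg (K : Type u) [Field K] (c : Bool) : K := bif c then -1 else 1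

/-- the characters -/
def ps (p : Bool × Bool) (j : Fin 4) : Bool := ![false, p.1, p.2, xor p.1 p.2] j

/-- the addition of `(ℤ / 2) ^ 2` -/
def sh (s j : Fin 4) : Fin 4 := ![![0, 1, 2, 3], ![1, 0, 3, 2], ![2, 3, 0, 1], ![3, 2, 1, 0]] s j

section sg

variable {K : Type u} [Field K]

theorem sg_xor (c d : Bool) : sg K (xor c d) = sg K c * sg K d := by
  cases c <;> cases d <;> simp [sg]

theorem sg_sq (c : Bool) : sg K c * sg K c = 1 := by cases c <;> simp [sg]

theorem sg_ne (c : Bool) : sg K c ≠ 0 := left_ne_zero_of_mul_eq_one (sg_sq c)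

theorem sg_inj (h2 : (2 : K) ≠ 0) {c d : Bool} (h : sg K c = sg K d) : c = d := by
  have h11 : (-1 : K) ≠ 1 := by
    intro h
    apply h2
    linear_combination -h
  cases c <;> cases d <;> simp [sg] at h ⊢
  · exact h11 h.symm
  · exact h11 h

theorem sg_map {L : Type v} [Field L] (σ : K →+* L) (c : Bool) : σ (sg K c) = sg L c := by
  cases c <;> simp [sg]

theorem sh_inj (s : Fin 4) : Function.Injective (sh s) := by
  intro i j
  revert s i j
  decide

end sg

section basis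

variable {K : Type u} [Field K] {V : Type v} [AddCommGroup V] [Module K V] {b : Cl K V}
  {A : Subgroup (Equiv.Perm (R K V))}

theorem exists_eig {Z X : (R K V)ˣ} (hZ : (Z : R K V) * Z = 1)
    (hZX : (Z : R K V) * X = -(X * Z)) (u : V) (hu : u ≠ 0) :
    ∃ v, v ≠ 0 ∧ (Z : R K V) v = v ∧ (v = u + (Z : R K V) u ∨ v = (X : R K V) u) := by
  by_cases h : u + (Z : R K V) u = 0
  · refine ⟨(X : R K V) u, ?_, ?_, Or.inr rfl⟩
    · intro h3
      apply hu
      have h4 : ((X⁻¹ : (R K V)ˣ) : R K V) ((X : R K V) u) = u := by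
        rw [← Module.End.mul_apply, Units.inv_mul]; rfl
      rw [h3, map_zero] at h4
      exact h4.symm
    · have h3 : (Z : R K V) u = -u := (neg_eq_of_add_eq_zero_right h).symm
      rw [← Module.End.mul_apply, hZX, LinearMap.neg_apply, Module.End.mul_apply, h3, map_neg, neg_neg]
  · refine ⟨_, h, ?_, Or.inl rfl⟩
    rw [map_add, ← Module.End.mul_apply, hZ, Module.End.one_apply, add_comm]

/-- the basis -/
structure Bas (Z1 X1 Z2 X2 : (R K V)ˣ) (e : Module.Basis (Fin 4) K V) : Prop where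
  z1 : ∀ j, (Z1 : R K V) (e j) = sg K (ps (true, false) j) • e j
  z2 : ∀ j, (Z2 : R K V) (e j) = sg K (ps (false, true) j) • e j
  x1 : ∀ j, (X1 : R K V) (e j) = e (sh 1 j)
  x2 : ∀ j, (X2 : R K V) (e j) = e (sh 2 j)

theorem exists_basis (h2 : (2 : K) ≠ 0) (hn : Module.finrank K V = 4) {Z1 X1 Z2 X2 : (R K V)ˣ} {m : K}
    (hQ : Quad b A Z1 X1 Z2 X2 m) : ∃ e : Module.Basis (Fin 4) K V, Bas Z1 X1 Z2 X2 e := by
  have : Nontrivial V := Module.nontrivial_of_finrank_pos (R := K) (by omega)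
  obtain ⟨u, hu⟩ := exists_ne (0 : V)
  obtain ⟨v, hv0, hv1, -⟩ := exists_eig hQ.iZ1.1 hQ.a1 u hu
  obtain ⟨e, he0, he2, hev⟩ := exists_eig hQ.iZ2.1 hQ.a2 v hv0
  have he1 : (Z1 : R K V) e = e := by
    rcases hev with h3 | h3
    · rw [h3, map_add, hv1, ← Module.End.mul_apply, hQ.c1, Module.End.mul_apply, hv1]
    · rw [h3, ← Module.End.mul_apply, hQ.c2, Module.End.mul_apply, hv1]
  let E : Fin 4 → V := ![e, (X1 : R K V) e, (X2 : R K V) e, (X1 : R K V) ((X2 : R K V) e)]
  have hc4 : ∀ v, (X2 : R K V) ((X1 : R K V) v) = (X1 : R K V) ((X2 : R K V) v) := by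
    intro v
    rw [← Module.End.mul_apply, ← hQ.c4, Module.End.mul_apply]
  have ha1 : ∀ v, (Z1 : R K V) ((X1 : R K V) v) = -((X1 : R K V) ((Z1 : R K V) v)) := by
    intro v
    rw [← Module.End.mul_apply, hQ.a1, LinearMap.neg_apply, Module.End.mul_apply]
  have ha2 : ∀ v, (Z2 : R K V) ((X2 : R K V) v) = -((X2 : R K V) ((Z2 : R K V) v)) := by
    intro v
    rw [← Module.End.mul_apply, hQ.a2, LinearMap.neg_apply, Module.End.mul_apply]
  have hb1 : ∀ v, (Z1 : R K V) ((X2 : R K V) v) = (X2 : R K V) ((Z1 : R K V) v) := by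
    intro v
    rw [← Module.End.mul_apply, hQ.c2, Module.End.mul_apply]
  have hb2 : ∀ v, (Z2 : R K V) ((X1 : R K V) v) = (X1 : R K V) ((Z2 : R K V) v) := by
    intro v
    rw [← Module.End.mul_apply, ← hQ.c3, Module.End.mul_apply]
  have z1 : ∀ j, (Z1 : R K V) (E j) = sg K (ps (true, false) j) • E j := by
    intro j
    fin_cases j
    · simp [E, ps, sg, he1]
    · simp [E, ps, sg, he1, ha1]
    · simp [E, ps, sg, he1, hb1]
    · simp [E, ps, sg, he1, ha1, hb1]
  have z2 : ∀ j, (Z2 : R K V) (E j) = sg K (ps (false, true) j) • E j := by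
    intro j
    fin_cases j
    · simp [E, ps, sg, he2]
    · simp [E, ps, sg, he2, hb2]
    · simp [E, ps, sg, he2, ha2]
    · simp [E, ps, sg, he2, ha2, hb2]
  have x1 : ∀ j, (X1 : R K V) (E j) = E (sh 1 j) := by
    intro j
    fin_cases j
    · rfl
    · exact hQ.iX1.app _
    · rfl
    · exact hQ.iX1.app _
  have x2 : ∀ j, (X2 : R K V) (E j) = E (sh 2 j) := by
    intro j
    fin_cases j
    · rfl
    · exact hc4 _
    · exact hQ.iX2.app _
    · show (X2 : R K V) ((X1 : R K V) ((X2 : R K V) e)) = (X1 : R K V) e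
      rw [hc4, hQ.iX2.app]
  have hE : ∀ j, E j ≠ 0 := by
    have hinj : ∀ (X : (R K V)ˣ) (v : V), v ≠ 0 → (X : R K V) v ≠ 0 := by
      intro X v hv h3
      apply hv
      have h4 : ((X⁻¹ : (R K V)ˣ) : R K V) ((X : R K V) v) = v := by
        rw [← Module.End.mul_apply, Units.inv_mul]; rfl
      rw [h3, map_zero] at h4
      exact h4.symm
    intro j
    fin_cases j
    · exact he0
    · exact hinj _ _ he0
    · exact hinj _ _ he0
    · exact hinj _ _ (hinj _ _ he0)
  have hli : LinearIndependent K E := by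
    rw [Fintype.linearIndependent_iff]
    intro g hg
    rw [Fin.sum_univ_four] at hg
    have hg1 := congrArg (Z1 : R K V) hg
    simp only [map_add, map_smul, z1, map_zero] at hg1
    have hg2 := congrArg (Z2 : R K V) hg
    simp only [map_add, map_smul, z2, map_zero] at hg2
    have hg3 := congrArg (Z2 : R K V) hg1
    simp only [map_add, map_smul, z2, map_zero] at hg3
    simp [ps, sg] at hg1 hg2 hg3
    have key : ∀ j, (2 : K) • (2 : K) • (g j • E j) = 0 := by
      intro j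
      fin_cases j
      · show (2 : K) • (2 : K) • (g 0 • E 0) = 0
        rw [show (2 : K) • (2 : K) • (g 0 • E 0) = (g 0 • E 0 + g 1 • E 1 + g 2 • E 2 + g 3 • E 3) +
          (g 0 • E 0 + -(g 1 • E 1) + g 2 • E 2 + -(g 3 • E 3)) +
          (g 0 • E 0 + g 1 • E 1 + -(g 2 • E 2) + -(g 3 • E 3)) +
          (g 0 • E 0 + -(g 1 • E 1) + -(g 2 • E 2) + g 3 • E 3) by module,
          hg, hg1, hg2, hg3]
        simp
      · show (2 : K) • (2 : K) • (g 1 • E 1) = 0
        rw [show (2 : K) • (2 : K) • (g 1 • E 1) = (g 0 • E 0 + g 1 • E 1 + g 2 • E 2 + g 3 • E 3) -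
          (g 0 • E 0 + -(g 1 • E 1) + g 2 • E 2 + -(g 3 • E 3)) +
          (g 0 • E 0 + g 1 • E 1 + -(g 2 • E 2) + -(g 3 • E 3)) -
          (g 0 • E 0 + -(g 1 • E 1) + -(g 2 • E 2) + g 3 • E 3) by module,
          hg, hg1, hg2, hg3]
        simp
      · show (2 : K) • (2 : K) • (g 2 • E 2) = 0
        rw [show (2 : K) • (2 : K) • (g 2 • E 2) = (g 0 • E 0 + g 1 • E 1 + g 2 • E 2 + g 3 • E 3) +
          (g 0 • E 0 + -(g 1 • E 1) + g 2 • E 2 + -(g 3 • E 3)) -
          (g 0 • E 0 + g 1 • E 1 + -(g 2 • E 2) + -(g 3 • E 3)) -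
          (g 0 • E 0 + -(g 1 • E 1) + -(g 2 • E 2) + g 3 • E 3) by module,
          hg, hg1, hg2, hg3]
        simp
      · show (2 : K) • (2 : K) • (g 3 • E 3) = 0
        rw [show (2 : K) • (2 : K) • (g 3 • E 3) = (g 0 • E 0 + g 1 • E 1 + g 2 • E 2 + g 3 • E 3) -
          (g 0 • E 0 + -(g 1 • E 1) + g 2 • E 2 + -(g 3 • E 3)) -
          (g 0 • E 0 + g 1 • E 1 + -(g 2 • E 2) + -(g 3 • E 3)) +
          (g 0 • E 0 + -(g 1 • E 1) + -(g 2 • E 2) + g 3 • E 3) by module,
          hg, hg1, hg2, hg3]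
        simp
    intro j
    have h3 := key j
    rcases smul_eq_zero.1 h3 with h4 | h4
    · exact absurd h4 h2
    rcases smul_eq_zero.1 h4 with h5 | h5
    · exact absurd h5 h2
    rcases smul_eq_zero.1 h5 with h6 | h6
    · exact h6
    · exact absurd h6 (hE j)
  have hcard : Fintype.card (Fin 4) = Module.finrank K V := by rw [hn, Fintype.card_fin]
  have hcoe : ⇑(basisOfLinearIndependentOfCardEqFinrank hli hcard) = E :=
    coe_basisOfLinearIndependentOfCardEqFinrank hli hcard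
  refine ⟨basisOfLinearIndependentOfCardEqFinrank hli hcard, ?_, ?_, ?_, ?_⟩ <;> intro j <;> rw [hcoe]
  · exact z1 j
  · exact z2 j
  · exact x1 j
  · exact x2 j

theorem B_basis (e : Module.Basis (Fin 4) K V) {v : V} (h : ∀ j, b.B v (e j) = 0) : v = 0 := by
  apply b.nondeg
  intro w
  let φ : V →+ K := AddMonoidHom.mk' (b.B v) (b.add_right v)
  have hφ : ∀ w, φ w = b.B v w := fun _ => rfl
  rw [← hφ, ← e.sum_repr w, map_sum]
  refine Finset.sum_eq_zero fun j _ => ?_
  rw [hφ, b.smul_right, h, mul_zero]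

theorem gram_z {Z : (R K V)ˣ} {m : K} (hZ : Iv b Z m) {e : Module.Basis (Fin 4) K V} {p : Bool × Bool}
    (h : ∀ j, (Z : R K V) (e j) = sg K (ps p j) • e j) (i j : Fin 4) :
    sg K (xor (ps p i) (ps p j)) * b.B (e i) (e j) = m * b.B (e i) (e j) := by
  have h1 := hZ.2.2 (e i) (e j)
  rw [h, h, b.smul_left, b.smul_right] at h1
  have h3 : b.τ (sg K (ps p j)) = sg K (ps p j) := sg_map (b.τ : K →+* K) _
  rw [h3] at h1
  rw [sg_xor, ← h1]
  ring

theorem neg_zero_of (h2 : (2 : K) ≠ 0) {x : K} (h : -1 * x = 1 * x) : x = 0 := by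
  have h3 : 2 * x = 0 := by linear_combination -h
  exact (mul_eq_zero.1 h3).resolve_left h2

/-- the Gram matrix in the hyperbolic case -/
theorem gram_one (h2 : (2 : K) ≠ 0) {Z1 X1 Z2 X2 : (R K V)ˣ} (hQ : Quad b A Z1 X1 Z2 X2 1)
    {e : Module.Basis (Fin 4) K V} (he : Bas Z1 X1 Z2 X2 e) (hU : b.IsU) :
    ∃ β : K, β ≠ 0 ∧ b.τ β = β ∧ ∀ i j, b.B (e i) (e j) = if i = j then β else 0 := by
  have hx1 : ∀ i j, b.B (e (sh 1 i)) (e (sh 1 j)) = b.B (e i) (e j) := by
    intro i j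
    rw [← he.x1, ← he.x1, hQ.iX1.2.2, one_mul]
  have hx2 : ∀ i j, b.B (e (sh 2 i)) (e (sh 2 j)) = b.B (e i) (e j) := by
    intro i j
    rw [← he.x2, ← he.x2, hQ.iX2.2.2, one_mul]
  have hG : ∀ i j, b.B (e i) (e j) = if i = j then b.B (e 0) (e 0) else 0 := by
    intro i j
    split_ifs with hij
    · subst hij
      fin_cases i
      · rfl
      · exact hx1 0 0
      · exact hx2 0 0
      · exact (hx1 2 2).trans (hx2 0 0)
    · have hd : ∀ i j : Fin 4, i ≠ j → xor (ps (true, false) i) (ps (true, false) j) = true ∨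
          xor (ps (false, true) i) (ps (false, true) j) = true := by decide
      rcases hd i j hij with h3 | h3
      · have h4 := gram_z hQ.iZ1 he.z1 i j
        rw [h3] at h4
        exact neg_zero_of h2 h4
      · have h4 := gram_z hQ.iZ2 he.z2 i j
        rw [h3] at h4
        exact neg_zero_of h2 h4
  refine ⟨b.B (e 0) (e 0), fun h0 => ?_, (hU.2 _ _).symm, hG⟩
  apply e.ne_zero 0
  apply B_basis (b := b) e
  intro j
  rw [hG, h0, ite_self]

/-- the Gram matrix in the elliptic case -/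
theorem gram_neg (h2 : (2 : K) ≠ 0) {Z1 X1 Z2 X2 : (R K V)ˣ} (hQ : Quad b A Z1 X1 Z2 X2 (-1))
    {e : Module.Basis (Fin 4) K V} (he : Bas Z1 X1 Z2 X2 e) (hU : b.IsU) :
    ∃ γ : K, γ ≠ 0 ∧ b.τ γ = -γ ∧ ∀ i j, b.B (e i) (e j) = if sh 2 i = j then (if i < j then γ else -γ) else 0 := by
  have hx1 : ∀ i j, b.B (e (sh 1 i)) (e (sh 1 j)) = b.B (e i) (e j) := by
    intro i j
    rw [← he.x1, ← he.x1, hQ.iX1.2.2, one_mul]
  have hx2 : ∀ i j, b.B (e (sh 2 i)) (e (sh 2 j)) = -b.B (e i) (e j) := by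
    intro i j
    rw [← he.x2, ← he.x2, hQ.iX2.2.2, neg_one_mul]
  have h20 : b.B (e 2) (e 0) = -b.B (e 0) (e 2) := hx2 0 2
  have hG : ∀ i j, b.B (e i) (e j) = if sh 2 i = j then (if i < j then b.B (e 0) (e 2) else -b.B (e 0) (e 2))
      else 0 := by
    intro i j
    by_cases hij : sh 2 i = j
    · subst hij
      rw [if_pos rfl]
      fin_cases i
      · rfl
      · exact hx1 0 2
      · exact h20
      · exact (hx1 2 0).trans h20
    · rw [if_neg hij]
      have hd : ∀ i j : Fin 4, sh 2 i ≠ j → xor (ps (true, false) i) (ps (true, false) j) = true ∨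
          xor (ps (false, true) i) (ps (false, true) j) = false := by decide
      rcases hd i j hij with h3 | h3
      · have h4 := gram_z hQ.iZ1 he.z1 i j
        rw [h3] at h4
        exact neg_zero_of h2 h4
      · have h4 := gram_z hQ.iZ2 he.z2 i j
        rw [h3] at h4
        exact neg_zero_of h2 h4.symm
  refine ⟨b.B (e 0) (e 2), fun h0 => ?_, ?_, hG⟩
  · apply e.ne_zero 0
    apply B_basis (b := b) e
    intro j
    rw [hG, h0, neg_zero, ite_self, ite_self]
  · rw [← hU.2, h20]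

end basis

section mono

variable {K : Type u} [Field K] {V : Type v} [AddCommGroup V] [Module K V] {σ : K →+* K}

/-- `g` is semilinear, monomial with the shift `s` and the character `p` -/
def Mo (e : Module.Basis (Fin 4) K V) (g : V →ₛₗ[σ] V) (s : Fin 4) (p : Bool × Bool) (κ : K) : Prop :=
  κ ≠ 0 ∧ ∀ j, g (e j) = (κ * sg K (ps p j)) • e (sh s j)

theorem repr_of {e : Module.Basis (Fin 4) K V} {g : V →ₛₗ[σ] V} {π : Fin 4 → Fin 4} (hπ : Function.Injective π)
    {μ : Fin 4 → K} (h : ∀ j, g (e j) = μ j • e (π j)) (v : V) (j : Fin 4) :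
    e.repr (g v) (π j) = σ (e.repr v j) * μ j := by
  have h1 : g v = ∑ k, (σ (e.repr v k) * μ k) • e (π k) := by
    conv_lhs => rw [← e.sum_repr v]
    rw [map_sum]
    refine Finset.sum_congr rfl fun k _ => ?_
    rw [map_smulₛₗ, h, smul_smul]
  rw [h1, map_sum, Finsupp.finsetSum_apply, Finset.sum_eq_single j]
  · rw [map_smul, Finsupp.smul_apply, e.repr_self, Finsupp.single_eq_same, smul_eq_mul, mul_one]
  · intro k _ hk
    rw [map_smul, Finsupp.smul_apply, e.repr_self, Finsupp.single_eq_of_ne (fun h3 => hk (hπ h3).symm), smul_zero]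
  · intro h3
    exact absurd (Finset.mem_univ _) h3

theorem exists_mono {Z1 X1 Z2 X2 : (R K V)ˣ} {e : Module.Basis (Fin 4) K V} (h2 : (2 : K) ≠ 0)
    (he : Bas Z1 X1 Z2 X2 e) {g : V →ₛₗ[σ] V} (hg : Function.Injective g) {c1 c2 d1 d2 : Bool}
    (hc1 : ∀ v, g ((Z1 : R K V) v) = sg K c1 • (Z1 : R K V) (g v))
    (hc2 : ∀ v, g ((Z2 : R K V) v) = sg K c2 • (Z2 : R K V) (g v))
    (hd1 : ∀ v, g ((X1 : R K V) v) = sg K d1 • (X1 : R K V) (g v))
    (hd2 : ∀ v, g ((X2 : R K V) v) = sg K d2 • (X2 : R K V) (g v)) :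
    ∃ s κ, Mo e g s (d1, d2) κ := by
  -- `g e 0`
  have hz : ∀ (Z : (R K V)ˣ) (p : Bool × Bool) (c : Bool), (∀ j, (Z : R K V) (e j) = sg K (ps p j) • e j) →
      (∀ v, g ((Z : R K V) v) = sg K c • (Z : R K V) (g v)) → ∀ j, e.repr (g (e 0)) j ≠ 0 → ps p j = c := by
    intro Z p c hZ hgZ j hj
    have h1 := hgZ (e 0)
    have h3 : (Z : R K V) (e 0) = e 0 := by
      rw [hZ]
      show sg K false • e 0 = e 0
      rw [sg]; exact one_smul _ _
    rw [h3] at h1
    have h4 := repr_of (e := e) (g := (Z : R K V)) (π := fun j => j) Function.injective_id hZ (g (e 0)) j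
    have h5 := congrArg (fun v => e.repr v j) h1
    simp only [map_smul, Finsupp.smul_apply, smul_eq_mul] at h5
    simp only [RingHom.id_apply] at h4
    rw [h4] at h5
    have h6 : sg K c * sg K (ps p j) = 1 := by
      have h7 : (sg K c * sg K (ps p j) - 1) * e.repr (g (e 0)) j = 0 := by linear_combination -h5
      exact sub_eq_zero.1 ((mul_eq_zero.1 h7).resolve_right hj)
    apply sg_inj h2
    have h7 := sg_sq (K := K) c
    have h8 := sg_ne (K := K) c
    have h9 : sg K c * (sg K (ps p j) - sg K c) = 0 := by linear_combination h6 - h7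
    exact sub_eq_zero.1 ((mul_eq_zero.1 h9).resolve_left h8)
  obtain ⟨s, hs⟩ : ∃ s : Fin 4, ∀ j, ps (true, false) j = c1 → ps (false, true) j = c2 → j = s := by
    have hd : ∀ c1 c2 : Bool, ∃ s : Fin 4, ∀ j, ps (true, false) j = c1 → ps (false, true) j = c2 → j = s := by decide
    exact hd c1 c2
  have hg0 : g (e 0) = e.repr (g (e 0)) s • e s := by
    conv_lhs => rw [← e.sum_repr (g (e 0))]
    rw [Finset.sum_eq_single s]
    · intro k _ hk
      have : e.repr (g (e 0)) k = 0 := by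
        by_contra h3
        exact hk (hs k (hz Z1 _ _ he.z1 hc1 k h3) (hz Z2 _ _ he.z2 hc2 k h3))
      rw [this, zero_smul]
    · intro h3
      exact absurd (Finset.mem_univ _) h3
  refine ⟨s, e.repr (g (e 0)) s, fun h0 => ?_, fun j => ?_⟩
  · rw [h0, zero_smul] at hg0
    exact e.ne_zero 0 (hg (hg0.trans (map_zero g).symm))
  generalize e.repr (g (e 0)) s = κ at hg0
  have h1 : g (e 1) = (κ * sg K d1) • e (sh 1 s) := by
    have h3 : e 1 = (X1 : R K V) (e 0) := (he.x1 0).symm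
    rw [h3, hd1, hg0, map_smul, he.x1, smul_smul, mul_comm]
  have h3 : g (e 2) = (κ * sg K d2) • e (sh 2 s) := by
    have h3 : e 2 = (X2 : R K V) (e 0) := (he.x2 0).symm
    rw [h3, hd2, hg0, map_smul, he.x2, smul_smul, mul_comm]
  have h4 : g (e 3) = (κ * sg K (xor d1 d2)) • e (sh 1 (sh 2 s)) := by
    have h5 : e 3 = (X1 : R K V) (e 2) := (he.x1 2).symm
    rw [h5, hd1, h3, map_smul, he.x1, smul_smul, sg_xor]
    congr 1
    ring
  have hc : ∀ s : Fin 4, sh s 0 = s ∧ sh s 1 = sh 1 s ∧ sh s 2 = sh 2 s ∧ sh s 3 = sh 1 (sh 2 s) := by decide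
  obtain ⟨k0, k1, k2, k3⟩ := hc s
  fin_cases j
  · show g (e 0) = (κ * sg K false) • e (sh s 0)
    rw [k0, hg0]
    have : κ * sg K false = κ := mul_one κ
    rw [this]
  · show g (e 1) = (κ * sg K d1) • e (sh s 1)
    rw [k1, h1]
  · show g (e 2) = (κ * sg K d2) • e (sh s 2)
    rw [k2, h3]
  · show g (e 3) = (κ * sg K (xor d1 d2)) • e (sh s 3)
    rw [k3, h4]

theorem Mo.repr {e : Module.Basis (Fin 4) K V} {g : V →ₛₗ[σ] V} {s : Fin 4} {p : Bool × Bool} {κ : K}
    (h : Mo e g s p κ) (v : V) (j : Fin 4) : e.repr (g v) (sh s j) = σ (e.repr v j) * (κ * sg K (ps p j)) :=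
  repr_of (sh_inj s) h.2 v j

variable {e : Module.Basis (Fin 4) K V}

theorem scal_of_mo {P : (R K V)ˣ} {κ : K} (hM : Mo (σ := RingHom.id K) e (P : R K V) 0 (false, false) κ) : Scal P := by
  refine ⟨κ, e.ext fun j => ?_⟩
  rw [hM.2 j]
  have h1 : ∀ j : Fin 4, sh 0 j = j ∧ ps (false, false) j = false := by decide
  rw [(h1 j).1, (h1 j).2]
  show (κ * 1) • e j = κ • e j
  rw [mul_one]

theorem scal_of_eig (h2 : (2 : K) ≠ 0) {P : (R K V)ˣ} {p : Bool × Bool} {κ : K}
    (hM : Mo (σ := RingHom.id K) e (P : R K V) 0 p κ) {v : V} {c : K} (hv : (P : R K V) v = c • v) (k₀ : Fin 4)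
    (hk : ∀ j, j ≠ k₀ → e.repr v j ≠ 0) : Scal P := by
  have h1 : ∀ j, j ≠ k₀ → κ * sg K (ps p j) = c := by
    intro j hj
    have h3 := hM.repr v j
    have h4 : ∀ j : Fin 4, sh 0 j = j := by decide
    rw [h4, hv, map_smul, Finsupp.smul_apply, smul_eq_mul, RingHom.id_apply] at h3
    have h5 : (κ * sg K (ps p j) - c) * e.repr v j = 0 := by linear_combination -h3
    exact sub_eq_zero.1 ((mul_eq_zero.1 h5).resolve_right (hk j hj))
  have h3 : ∀ i j, i ≠ k₀ → j ≠ k₀ → ps p i = ps p j := by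
    intro i j hi hj
    apply sg_inj h2
    exact mul_left_cancel₀ hM.1 ((h1 i hi).trans (h1 j hj).symm)
  have h4 : ∀ (p : Bool × Bool) (k₀ : Fin 4), (∀ i j, i ≠ k₀ → j ≠ k₀ → ps p i = ps p j) → p = (false, false) := by
    decide
  have h5 := h4 p k₀ h3
  subst h5
  exact scal_of_mo hM

theorem shift_zero {P : (R K V)ˣ} {s : Fin 4} {p : Bool × Bool} {κ : K}
    (hM : Mo (σ := RingHom.id K) e (P : R K V) s p κ) {v : V} {c : K} (hv : (P : R K V) v = c • v) (k₀ : Fin 4)
    (hk₀ : e.repr v k₀ = 0) (hk : ∀ j, j ≠ k₀ → e.repr v j ≠ 0) : s = 0 := by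
  by_contra hs
  have h1 : ∀ s k₀ : Fin 4, s ≠ 0 → sh s k₀ ≠ k₀ := by decide
  have h3 := hM.repr v k₀
  rw [hv, hk₀, map_zero, zero_mul, map_smul, Finsupp.smul_apply, smul_eq_mul] at h3
  have h4 : c = 0 := (mul_eq_zero.1 h3).resolve_right (hk _ (h1 s k₀ hs))
  rw [h4, zero_smul] at hv
  have h5 : v = 0 := by
    rw [← Cfsg.Agent.H961.FC.units_inv_apply P v, hv, map_zero]
  apply hk _ (h1 s k₀ hs)
  rw [h5, map_zero, Finsupp.zero_apply]

theorem shift_zero' {P : (R K V)ˣ} {s : Fin 4} {p : Bool × Bool} {κ : K}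
    (hM : Mo (σ := RingHom.id K) e (P : R K V) s p κ) {c : K} {j : Fin 4} (hv : (P : R K V) (e j) = c • e j) :
    s = 0 := by
  by_contra hs
  have h1 : ∀ s k₀ : Fin 4, s ≠ 0 → sh s k₀ ≠ k₀ := by decide
  have h3 := hM.repr (e j) j
  rw [hv, map_smul, Finsupp.smul_apply, e.repr_self, Finsupp.single_eq_same,
    Finsupp.single_eq_of_ne (h1 s j hs), smul_zero, map_one, one_mul] at h3
  exact mul_ne_zero hM.1 (sg_ne _) h3.symm

end mono

section lf

variable {K : Type u} [Field K] {V : Type v} [AddCommGroup V] [Module K V] {b : Cl K V}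
  {S A : Subgroup (Equiv.Perm (R K V))}

theorem mono_hat (h2 : (2 : K) ≠ 0) {a : ℕ} (h : C6Data S A 2 a) {Z1 X1 Z2 X2 : (R K V)ˣ} {m : K}
    (hQ : Quad b A Z1 X1 Z2 X2 m) {e : Module.Basis (Fin 4) K V} (he : Bas Z1 X1 Z2 X2 e) {P : (R K V)ˣ}
    (hP : P ∈ Hat A) : ∃ s p κ, Mo (σ := RingHom.id K) e (P : R K V) s p κ := by
  have h1 : ∀ X ∈ Hat A, ∃ c : Bool, ∀ v, (P : R K V) ((X : R K V) v) = sg K c • (X : R K V) ((P : R K V) v) := by
    intro X hX
    rcases comm_or h hP hX with h3 | h3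
    · refine ⟨false, fun v => ?_⟩
      show _ = (1 : K) • _
      rw [one_smul, ← Module.End.mul_apply, h3, Module.End.mul_apply]
    · refine ⟨true, fun v => ?_⟩
      show _ = (-1 : K) • _
      rw [neg_smul, one_smul, ← Module.End.mul_apply, h3, LinearMap.neg_apply, Module.End.mul_apply]
  obtain ⟨c1, hc1⟩ := h1 _ hQ.hZ1
  obtain ⟨c2, hc2⟩ := h1 _ hQ.hZ2
  obtain ⟨d1, hd1⟩ := h1 _ hQ.hX1
  obtain ⟨d2, hd2⟩ := h1 _ hQ.hX2
  obtain ⟨s, κ, hM⟩ := exists_mono (σ := RingHom.id K) (g := (P : R K V)) h2 he (by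
    intro v w hvw
    rw [← Cfsg.Agent.H961.FC.units_inv_apply P v, hvw, Cfsg.Agent.H961.FC.units_inv_apply]) hc1 hc2 hd1 hd2
  exact ⟨s, _, κ, hM⟩

/-- a lift `h` of an element centralizing `A` and the conjugate `y = x h x⁻¹` -/
structure Lf (A : Subgroup (Equiv.Perm (R K V))) (x : (R K V)ˣ) (σ : K ≃+* K) (h y : V →ₛₗ[(σ : K →+* K)] V) :
    Prop where
  hinj : Function.Injective h
  yinj : Function.Injective y
  hc : ∀ P ∈ Hat A, (P : R K V) * P = 1 → ∃ c : Bool, ∀ v, h ((P : R K V) v) = sg K c • (P : R K V) (h v)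
  yx : ∀ v, y ((x : R K V) v) = (x : R K V) (h v)
  yn : ∀ P ∈ Hat A, ∃ Q ∈ Hat A, ∀ v, (Q : R K V) (y v) = y ((P : R K V) v)

theorem exists_Lf [Module.Finite K V] {a : ℕ} (h : C6Data S A 2 a) (hS : S ≤ RP K V) {f : Equiv.Perm (R K V)}
    (hf : f ∈ S) (hfc : ∀ c ∈ A, f * c = c * f) {x : (R K V)ˣ} (hx : cj K V x * f * (cj K V x)⁻¹ ∈ S) :
    ∃ (σ : K ≃+* K) (h y : V →ₛₗ[(σ : K →+* K)] V), Lf A x σ h y ∧
      ((∀ a, σ a = a) → (∃ κ : K, ∀ v, h v = κ • v) → f = 1) := by
  have := nontrivial_of h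
  obtain ⟨σ, hσ⟩ := exists_sig (hS hf)
  obtain ⟨g, hadd, hsm, hg⟩ := hσ.semi (hS hf)
  let h' : V →ₛₗ[(σ : K →+* K)] V :=
    { toFun := g
      map_add' := hadd
      map_smul' := hsm }
  have hh' : ∀ v, h' v = g v := fun _ => rfl
  have hxi := fun v => Cfsg.Agent.H961.FC.units_inv_apply x v
  let y' : V →ₛₗ[(σ : K →+* K)] V :=
    { toFun := fun v => (x : R K V) (g (((x⁻¹ : (R K V)ˣ) : R K V) v))
      map_add' := fun v w => by rw [map_add, hadd, map_add]
      map_smul' := fun c v => by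
        show _ = σ c • _
        rw [map_smul, hsm, map_smul] }
  have hy' : ∀ v, y' v = (x : R K V) (g (((x⁻¹ : (R K V)ˣ) : R K V) v)) := fun _ => rfl
  refine ⟨σ, h', y', ⟨g.injective, ?_, ?_, ?_, ?_⟩, ?_⟩
  · intro v w hvw
    rw [hy', hy'] at hvw
    have h1 := congrArg ((x⁻¹ : (R K V)ˣ) : R K V) hvw
    rw [hxi, hxi] at h1
    have h3 := congrArg (x : R K V) (g.injective h1)
    rwa [Cfsg.Agent.H961.FC.units_apply_inv, Cfsg.Agent.H961.FC.units_apply_inv] at h3
  · intro P hP hPP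
    have h1 : cj K V P = cj K V (Cfsg.Agent.H706.FC.fu (hS hf) P) := by
      have h3 := Cfsg.Agent.H706.FC.f_cj (hS hf) P
      rw [hfc _ hP] at h3
      exact mul_right_cancel h3
    obtain ⟨κ, hκ0, hκ⟩ := cj_eq h1.symm
    rw [Cfsg.Agent.H706.FC.fu_val] at hκ
    have h3 : κ * κ = 1 := by
      have h4 : f (P : R K V) * f (P : R K V) = 1 := by
        rw [← (hS hf).2, hPP, Cfsg.Agent.H706.FC.RP_map_one (hS hf)]
      rw [hκ, smul_mul_smul_comm, hPP] at h4
      have h8 : (κ * κ) • (1 : R K V) = (1 : K) • 1 := by rw [h4, one_smul]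
      exact smul_one_inj h8
    obtain ⟨c, hc⟩ : ∃ c, sg K c = κ := by
      rcases mul_self_eq_one_iff.1 h3 with h4 | h4
      · exact ⟨false, h4.symm⟩
      · exact ⟨true, h4.symm⟩
    refine ⟨c, fun v => ?_⟩
    rw [hh', hh', ← hg, hκ, hc, LinearMap.smul_apply]
  · intro v
    rw [hy', hxi, hh']
  · intro P hP
    have h1 := hS hx
    have h3 : cj K V (Cfsg.Agent.H706.FC.fu h1 P) ∈ A := by
      have h4 := h.2.2.2.2.2.2.2.2.2.1 _ hx _ hP
      rwa [Cfsg.Agent.H706.FC.f_cj h1 P, mul_inv_cancel_right] at h4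
    refine ⟨Cfsg.Agent.H706.FC.fu h1 P, h3, fun v => ?_⟩
    have h4 : (Cfsg.Agent.H706.FC.fu h1 P : R K V) = (x : R K V) *
        f (((x⁻¹ : (R K V)ˣ) : R K V) * (P : R K V) * (x : R K V)) * ((x⁻¹ : (R K V)ˣ) : R K V) := by
      rw [Cfsg.Agent.H706.FC.fu_val, Equiv.Perm.mul_apply, Equiv.Perm.mul_apply, ← map_inv, cj_apply, cj_apply, inv_inv]
    rw [h4, hy', hy', Module.End.mul_apply, Module.End.mul_apply, hxi, hg, Module.End.mul_apply, Module.End.mul_apply,
      Cfsg.Agent.H961.FC.units_apply_inv]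
  · rintro hid ⟨κ, hκ⟩
    have hκ0 : κ ≠ 0 := by
      rintro rfl
      obtain ⟨v, hv⟩ := exists_ne (0 : V)
      apply hv
      apply g.injective
      have h3 : g 0 = 0 := by
        have := hκ 0
        rwa [smul_zero] at this
      rw [h3]
      have := hκ v
      rwa [zero_smul] at this
    apply Equiv.ext
    intro X
    ext v
    have h3 := hg X v
    rw [← hh', ← hh', hκ, hκ, map_smul] at h3
    rw [Equiv.Perm.one_apply]
    have h4 := congrArg (fun w => κ⁻¹ • w) h3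
    simpa [smul_smul, inv_mul_cancel₀ hκ0] using h4

end lf

section lf2

variable {K : Type u} [Field K] {V : Type v} [AddCommGroup V] [Module K V] {b : Cl K V}
  {S A : Subgroup (Equiv.Perm (R K V))} {Z1 X1 Z2 X2 : (R K V)ˣ} {m : K} {e : Module.Basis (Fin 4) K V}
  {x : (R K V)ˣ} {σ : K ≃+* K} {h y : V →ₛₗ[(σ : K →+* K)] V}

theorem Lf.mono_h (L : Lf A x σ h y) (h2 : (2 : K) ≠ 0) (hQ : Quad b A Z1 X1 Z2 X2 m) (he : Bas Z1 X1 Z2 X2 e) :
    ∃ s p κ, Mo e h s p κ := by
  obtain ⟨c1, hc1⟩ := L.hc _ hQ.hZ1 hQ.iZ1.1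
  obtain ⟨c2, hc2⟩ := L.hc _ hQ.hZ2 hQ.iZ2.1
  obtain ⟨d1, hd1⟩ := L.hc _ hQ.hX1 hQ.iX1.1
  obtain ⟨d2, hd2⟩ := L.hc _ hQ.hX2 hQ.iX2.1
  obtain ⟨s, κ, hM⟩ := exists_mono h2 he L.hinj hc1 hc2 hd1 hd2
  exact ⟨s, _, κ, hM⟩

theorem Lf.nonscal (L : Lf A x σ h y) {P Q : (R K V)ˣ} (hQ : ∀ v, (Q : R K V) (y v) = y ((P : R K V) v))
    (hP : ¬ Scal P) : ¬ Scal Q := by
  rintro ⟨c, hc⟩
  apply hP
  refine ⟨σ.symm c, LinearMap.ext fun v => ?_⟩
  apply L.yinj
  rw [← hQ, hc, LinearMap.smul_apply, Module.End.one_apply, LinearMap.smul_apply, Module.End.one_apply, map_smulₛₗ]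
  show c • y v = σ (σ.symm c) • y v
  rw [RingEquiv.apply_symm_apply]

theorem Quad.nsZ1 [Nontrivial V] (h2 : (2 : K) ≠ 0) (hQ : Quad b A Z1 X1 Z2 X2 m) : ¬ Scal Z1 :=
  not_scal_of_anti h2 hQ.a1

theorem Quad.nsZ2 [Nontrivial V] (h2 : (2 : K) ≠ 0) (hQ : Quad b A Z1 X1 Z2 X2 m) : ¬ Scal Z2 :=
  not_scal_of_anti h2 hQ.a2

theorem Quad.nsZ [Nontrivial V] (h2 : (2 : K) ≠ 0) (hQ : Quad b A Z1 X1 Z2 X2 m) : ¬ Scal (Z1 * Z2) := by
  refine not_scal_of_anti (y := X1) h2 ?_
  rw [Units.val_mul, mul_assoc, ← hQ.c3, ← mul_assoc, hQ.a1, neg_mul, mul_assoc]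

theorem Lf.mono_y [Nontrivial V] (L : Lf A x σ h y) (h2 : (2 : K) ≠ 0) {a : ℕ} (hD : C6Data S A 2 a)
    (hQ : Quad b A Z1 X1 Z2 X2 m) (he : Bas Z1 X1 Z2 X2 e) {j₀ : Fin 4} {c : K} (hj : y (e j₀) = c • e j₀) :
    ∃ (π : Fin 4 → Fin 4) (p : Fin 4 → K), Function.Injective π ∧ (∀ j, p j ≠ 0) ∧ ∀ j, y (e j) = p j • e (π j) := by
  classical
  have hc0 : c ≠ 0 := by
    rintro rfl
    rw [zero_smul] at hj
    exact e.ne_zero j₀ (L.yinj (hj.trans (map_zero y).symm))
  obtain ⟨Q1, hQ1, hy1⟩ := L.yn _ hQ.hZ1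
  obtain ⟨Q2, hQ2, hy2⟩ := L.yn _ hQ.hZ2
  obtain ⟨s1, p1, κ1, M1⟩ := mono_hat h2 hD hQ he hQ1
  obtain ⟨s2, p2, κ2, M2⟩ := mono_hat h2 hD hQ he hQ2
  have hs : ∀ (P Q : (R K V)ˣ) (s : Fin 4) (q p : Bool × Bool) (κ : K),
      (∀ j, (P : R K V) (e j) = sg K (ps q j) • e j) → (∀ v, (Q : R K V) (y v) = y ((P : R K V) v)) →
      Mo (σ := RingHom.id K) e (Q : R K V) s p κ → s = 0 := by
    intro P Q s q p κ hP hy hM
    refine shift_zero' (j := j₀) (c := sg K (ps q j₀)) hM ?_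
    have h3 := hy (e j₀)
    rw [hP, map_smulₛₗ, hj, map_smul, sg_map, smul_comm] at h3
    exact smul_right_injective V hc0 h3
  have hs1 := hs _ _ _ _ _ _ he.z1 hy1 M1
  have hs2 := hs _ _ _ _ _ _ he.z2 hy2 M2
  subst hs1 hs2
  have n1 : ¬ Scal Q1 := L.nonscal hy1 (hQ.nsZ1 h2)
  have n2 : ¬ Scal Q2 := L.nonscal hy2 (hQ.nsZ2 h2)
  have n3 : ¬ Scal (Q1 * Q2) := L.nonscal (P := Z1 * Z2) (fun v => by
    rw [Units.val_mul, Module.End.mul_apply, hy2, hy1, Units.val_mul, Module.End.mul_apply]) (hQ.nsZ h2)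
  have e1 : p1 ≠ (false, false) := by
    rintro rfl
    exact n1 (scal_of_mo M1)
  have e2 : p2 ≠ (false, false) := by
    rintro rfl
    exact n2 (scal_of_mo M2)
  have h0 : ∀ j : Fin 4, sh 0 j = j := by decide
  have e3 : p1 ≠ p2 := by
    rintro rfl
    apply n3
    refine ⟨κ1 * κ2, e.ext fun j => ?_⟩
    rw [Units.val_mul, Module.End.mul_apply, M2.2 j, h0, map_smul, M1.2 j, h0, smul_smul]
    show _ = (κ1 * κ2) • e j
    congr 1
    linear_combination (κ1 * κ2) * sg_sq (K := K) (ps p1 j)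
  have key : ∀ j, ∃ (k : Fin 4) (q : K), q ≠ 0 ∧ y (e j) = q • e k := by
    intro j
    have hne : y (e j) ≠ 0 := fun h3 => e.ne_zero j (L.yinj (h3.trans (map_zero y).symm))
    obtain ⟨k, hk⟩ : ∃ k, e.repr (y (e j)) k ≠ 0 := by
      by_contra hcon
      push Not at hcon
      apply hne
      apply e.repr.injective
      rw [map_zero]
      ext k
      exact hcon k
    have hcoord : ∀ (P Q : (R K V)ˣ) (q p : Bool × Bool) (κ : K),
        (∀ j, (P : R K V) (e j) = sg K (ps q j) • e j) → (∀ v, (Q : R K V) (y v) = y ((P : R K V) v)) →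
        Mo (σ := RingHom.id K) e (Q : R K V) 0 p κ → ∀ l, e.repr (y (e j)) l ≠ 0 → κ * sg K (ps p l) =
          sg K (ps q j) := by
      intro P Q q p κ hP hy hM l hl
      have h3 := hM.repr (y (e j)) l
      rw [hy, hP, h0, map_smulₛₗ, sg_map, map_smul, Finsupp.smul_apply, smul_eq_mul, RingHom.id_apply] at h3
      have h5 : (κ * sg K (ps p l) - sg K (ps q j)) * e.repr (y (e j)) l = 0 := by linear_combination -h3
      exact sub_eq_zero.1 ((mul_eq_zero.1 h5).resolve_right hl)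
    have huniq : ∀ l, e.repr (y (e j)) l ≠ 0 → l = k := by
      intro l hl
      have a1 := (hcoord _ _ _ _ _ he.z1 hy1 M1 l hl).trans (hcoord _ _ _ _ _ he.z1 hy1 M1 k hk).symm
      have a2 := (hcoord _ _ _ _ _ he.z2 hy2 M2 l hl).trans (hcoord _ _ _ _ _ he.z2 hy2 M2 k hk).symm
      have b1 := sg_inj h2 (mul_left_cancel₀ M1.1 a1)
      have b2 := sg_inj h2 (mul_left_cancel₀ M2.1 a2)
      have hd : ∀ p q : Bool × Bool, p ≠ (false, false) → q ≠ (false, false) → p ≠ q → ∀ k l : Fin 4,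
          ps p k = ps p l → ps q k = ps q l → k = l := by decide
      exact hd p1 p2 e1 e2 e3 l k b1 b2
    refine ⟨k, e.repr (y (e j)) k, hk, ?_⟩
    conv_lhs => rw [← e.sum_repr (y (e j))]
    rw [Finset.sum_eq_single k]
    · intro l _ hl
      have : e.repr (y (e j)) l = 0 := by
        by_contra h3
        exact hl (huniq l h3)
      rw [this, zero_smul]
    · intro h3
      exact absurd (Finset.mem_univ _) h3
  choose π p hp hy using key
  refine ⟨π, p, ?_, hp, hy⟩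
  intro j j' hjj
  by_contra hne
  have h3 : y (σ.symm (p j') • e j) = y (σ.symm (p j) • e j') := by
    rw [map_smulₛₗ, map_smulₛₗ, hy, hy, hjj, smul_smul, smul_smul]
    show (σ (σ.symm (p j')) * p j) • _ = (σ (σ.symm (p j)) * p j') • _
    rw [RingEquiv.apply_symm_apply, RingEquiv.apply_symm_apply, mul_comm]
  have h4 := congrArg (fun v => e.repr v j) (L.yinj h3)
  simp only [map_smul, Finsupp.smul_apply, e.repr_self, Finsupp.single_eq_same, Finsupp.single_eq_of_ne hne,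
    smul_eq_mul, mul_one, mul_zero] at h4
  apply hp j'
  have h5 := congrArg σ h4
  rwa [RingEquiv.apply_symm_apply, map_zero] at h5

/-- the matrix of `x` -/
def Xm (ω w : Fin 4 → K) (j k : Fin 4) : K := (if j = k then 1 else 0) + ω k * w j

theorem Lf.rel (L : Lf A x σ h y) {p : Bool × Bool} {κ : K} (hM : Mo e h 0 p κ) {ω w : Fin 4 → K} {W : V}
    (hW : ∀ j, e.repr W j = w j) (hx : ∀ k, (x : R K V) (e k) = e k + ω k • W) {π : Fin 4 → Fin 4}
    {q : Fin 4 → K} (hπ : Function.Injective π) (hy : ∀ j, y (e j) = q j • e (π j)) (j k : Fin 4) :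
    σ (Xm ω w j k) * q j = κ * sg K (ps p k) * Xm ω w (π j) k := by
  classical
  have hX : ∀ j k, e.repr ((x : R K V) (e k)) j = Xm ω w j k := by
    intro j k
    rw [hx, map_add, Finsupp.add_apply, map_smul, Finsupp.smul_apply, hW, smul_eq_mul, e.repr_self, Xm,
      Finsupp.single_apply]
    simp only [eq_comm]
  have h0 : ∀ j : Fin 4, sh 0 j = j := by decide
  have h1 := repr_of hπ hy ((x : R K V) (e k)) j
  rw [hX, L.yx, hM.2, h0, map_smul, map_smul, Finsupp.smul_apply, hX, smul_eq_mul] at h1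
  exact h1.symm

end lf2

open Cfsg.Agent.H706.FC


section fin

variable {K : Type u} [Field K] {V : Type v} [AddCommGroup V] [Module K V] {b : Cl K V}
  {S A : Subgroup (Equiv.Perm (R K V))} {Z1 X1 Z2 X2 : (R K V)ˣ} {m : K} {e : Module.Basis (Fin 4) K V}
  {x : (R K V)ˣ} {σ : K ≃+* K} {h y : V →ₛₗ[(σ : K →+* K)] V}

theorem comm_aut [Finite K] (σ τ : K ≃+* K) (a : K) : τ (σ a) = σ (τ a) := by
  by_cases ha : a = 0
  · rw [ha]; simp
  obtain ⟨t, ht⟩ := exists_gn K
  have hgen : ∀ x : K, x ≠ 0 → ∃ k : ℤ, x = (t : K) ^ k := by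
    intro x hx
    obtain ⟨k, hk⟩ := ht (Units.mk0 x hx)
    refine ⟨k, ?_⟩
    have := congrArg (fun y : Kˣ => (y : K)) hk
    simpa using this.symm
  obtain ⟨k, rfl⟩ := hgen a ha
  obtain ⟨m, hm⟩ := hgen (σ t) (by simp)
  obtain ⟨n, hn⟩ := hgen (τ t) (by simp)
  have h1 : τ (σ (t : K)) = σ (τ (t : K)) := by
    rw [hm, hn, map_zpow₀, map_zpow₀, hm, hn, ← zpow_mul, ← zpow_mul, mul_comm m n]
  rw [map_zpow₀, map_zpow₀, map_zpow₀, map_zpow₀, h1]

theorem skew_ind {τ : K ≃+* K} (h2 : (2 : K) ≠ 0) {κ : K} (hκ : τ κ = -κ) {a d : K} (ha : τ a = a) (hd : τ d = d)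
    (h : a + d * κ = 0) : a = 0 := by
  have h1 := congrArg τ h
  rw [map_add, map_mul, ha, hd, hκ, map_zero] at h1
  have h3 : 2 * a = 0 := by linear_combination h + h1
  exact (mul_eq_zero.1 h3).resolve_left h2

theorem Lf.no_three [Nontrivial V] (L : Lf A x σ h y) (h2 : (2 : K) ≠ 0) {a : ℕ} (hD : C6Data S A 2 a)
    (hQ : Quad b A Z1 X1 Z2 X2 m) (he : Bas Z1 X1 Z2 X2 e) {j₀ : Fin 4} {c : K} (hc : c ≠ 0) {v : V}
    (hj : y (e j₀) = c • v) (k₀ : Fin 4) (hk₀ : e.repr v k₀ = 0) (hk : ∀ j, j ≠ k₀ → e.repr v j ≠ 0) : False := by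
  obtain ⟨Q1, hQ1, hy1⟩ := L.yn _ hQ.hZ1
  obtain ⟨s1, p1, κ1, M1⟩ := mono_hat h2 hD hQ he hQ1
  have h3 := hy1 (e j₀)
  rw [he.z1, map_smulₛₗ, hj, map_smul, sg_map, smul_comm] at h3
  have h4 : (Q1 : R K V) v = sg K (ps (true, false) j₀) • v := smul_right_injective V hc h3
  have hs := shift_zero M1 h4 k₀ hk₀ hk
  subst hs
  exact L.nonscal hy1 (hQ.nsZ1 h2) (scal_of_eig h2 M1 h4 k₀ hk)

theorem Lf.full [Nontrivial V] (L : Lf A x σ h y) (h2 : (2 : K) ≠ 0) {a : ℕ} (hD : C6Data S A 2 a)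
    (hQ : Quad b A Z1 X1 Z2 X2 m) (he : Bas Z1 X1 Z2 X2 e) {j₀ : Fin 4} {c : K} (hc : c ≠ 0) {v : V}
    (hj : y (e j₀) = c • v) (hk : ∀ j, e.repr v j ≠ 0) {t u : K} (ht4 : t ^ 4 ≠ 1) (hu4 : u ^ 4 ≠ 1)
    (h01 : e.repr v 1 = t * e.repr v 0) (h3 : e.repr v 3 = 1) (h0 : e.repr v 0 * e.repr v 0 = -(u * u)) : False := by
  obtain ⟨Q1, hQ1, hy1⟩ := L.yn _ hQ.hZ1
  obtain ⟨Q2, hQ2, hy2⟩ := L.yn _ hQ.hZ2
  obtain ⟨s1, p1, κ1, M1⟩ := mono_hat h2 hD hQ he hQ1
  obtain ⟨s2, p2, κ2, M2⟩ := mono_hat h2 hD hQ he hQ2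
  obtain ⟨s3, p3, κ3, M3⟩ := mono_hat h2 hD hQ he (mul_mem hQ1 hQ2)
  have hev : ∀ (P Q : (R K V)ˣ) (q : Bool × Bool), (∀ j, (P : R K V) (e j) = sg K (ps q j) • e j) →
      (∀ v, (Q : R K V) (y v) = y ((P : R K V) v)) → (Q : R K V) v = sg K (ps q j₀) • v := by
    intro P Q q hP hy
    have h3 := hy (e j₀)
    rw [hP, map_smulₛₗ, hj, map_smul, sg_map, smul_comm] at h3
    exact smul_right_injective V hc h3
  have ev1 := hev _ _ _ he.z1 hy1
  have ev2 := hev _ _ _ he.z2 hy2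
  have hsh : ∀ (Q : (R K V)ˣ) (s : Fin 4) (p : Bool × Bool) (κ : K) (c : Bool),
      Mo (σ := RingHom.id K) e (Q : R K V) s p κ → (Q : R K V) v = sg K c • v → ¬ Scal Q → s = 2 := by
    intro Q s p κ c hM hv hns
    have hr := fun j => hM.repr v j
    simp only [hv, map_smul, Finsupp.smul_apply, smul_eq_mul, RingHom.id_apply] at hr
    have hcases : s = 0 ∨ s = 1 ∨ s = 2 ∨ s = 3 := by
      have hd : ∀ s : Fin 4, s = 0 ∨ s = 1 ∨ s = 2 ∨ s = 3 := by decide
      exact hd s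
    rcases hcases with rfl | rfl | rfl | rfl
    · exact absurd (scal_of_eig h2 hM hv 0 fun j _ => hk j) hns
    · exfalso
      have r0 : sg K c * e.repr v 1 = e.repr v 0 * (κ * 1) := hr 0
      have r1 : sg K c * e.repr v 0 = e.repr v 1 * (κ * sg K p.1) := hr 1
      have hκ := hM.1
      have hv0 := hk 0
      have c1 := sg_sq (K := K) c
      have c2 := sg_sq (K := K) p.1
      rw [h01] at r0 r1
      -- `c t = κ`, `c = t κ p`
      have q0 : sg K c * t = κ := by
        have : (sg K c * t - κ) * e.repr v 0 = 0 := by linear_combination r0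
        exact sub_eq_zero.1 ((mul_eq_zero.1 this).resolve_right hv0)
      have q1 : sg K c = t * κ * sg K p.1 := by
        have : (sg K c - t * κ * sg K p.1) * e.repr v 0 = 0 := by linear_combination r1
        exact sub_eq_zero.1 ((mul_eq_zero.1 this).resolve_right hv0)
      rw [← q0] at q1
      have q2 : t * t * sg K p.1 = 1 := by
        have : sg K c * (t * t * sg K p.1 - 1) = 0 := by linear_combination -q1
        exact sub_eq_zero.1 ((mul_eq_zero.1 this).resolve_left (sg_ne c))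
      apply ht4
      linear_combination (t * t * sg K p.1 + 1) * q2 - t ^ 4 * c2
    · rfl
    · exfalso
      have r0 : sg K c * e.repr v 3 = e.repr v 0 * (κ * 1) := hr 0
      have r1 : sg K c * e.repr v 0 = e.repr v 3 * (κ * sg K (xor p.1 p.2)) := hr 3
      have hκ := hM.1
      have c2 := sg_sq (K := K) (xor p.1 p.2)
      rw [h3] at r0 r1
      have q2 : e.repr v 0 * e.repr v 0 = sg K (xor p.1 p.2) := by
        have : κ * (e.repr v 0 * e.repr v 0 - sg K (xor p.1 p.2)) = 0 := by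
          linear_combination r1 - e.repr v 0 * r0
        exact sub_eq_zero.1 ((mul_eq_zero.1 this).resolve_left hκ)
      rw [h0] at q2
      apply hu4
      linear_combination (-(u * u) + sg K (xor p.1 p.2)) * q2 + c2
  have e1 := hsh _ _ _ _ _ M1 ev1 (L.nonscal hy1 (hQ.nsZ1 h2))
  have e2 := hsh _ _ _ _ _ M2 ev2 (L.nonscal hy2 (hQ.nsZ2 h2))
  subst e1 e2
  have n3 : ¬ Scal (Q1 * Q2) := L.nonscal (P := Z1 * Z2) (fun v => by
    rw [Units.val_mul, Module.End.mul_apply, hy2, hy1, Units.val_mul, Module.End.mul_apply]) (hQ.nsZ h2)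
  have ev3 : ((Q1 * Q2 : (R K V)ˣ) : R K V) v = sg K (xor (ps (true, false) j₀) (ps (false, true) j₀)) • v := by
    rw [Units.val_mul, Module.End.mul_apply, ev2, map_smul, ev1, smul_smul, sg_xor, mul_comm]
  have e3 := hsh _ _ _ _ _ M3 ev3 n3
  subst e3
  have h4 := M3.2 0
  have h5 := M2.2 0
  have h6 := M1.2 2
  rw [Units.val_mul, Module.End.mul_apply, h5] at h4
  have h7 : sh 2 0 = 2 := rfl
  have h8 : sh 2 2 = 0 := rfl
  rw [h7, map_smul, h6, h8, smul_smul] at h4
  have h9 := congrArg (fun v => e.repr v 2) h4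
  simp only [map_smul, Finsupp.smul_apply, e.repr_self, smul_eq_mul, Finsupp.single_eq_same] at h9
  rw [Finsupp.single_eq_of_ne (by decide), mul_zero, mul_one] at h9
  exact mul_ne_zero M3.1 (sg_ne _) h9.symm

theorem Lf.end_eq {p : Bool × Bool} {μ : K} (hM : Mo e h 0 p μ) (hp : p = (false, false)) (hσ : ∀ a, σ a = a) (v : V) :
    h v = μ • v := by
  subst hp
  have h1 : ∀ j : Fin 4, sh 0 j = j ∧ ps (false, false) j = false := by decide
  apply e.repr.injective
  ext j
  have h3 := hM.repr v j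
  rw [(h1 j).1, (h1 j).2] at h3
  rw [h3, map_smul, Finsupp.smul_apply, smul_eq_mul]
  show σ (e.repr v j) * (μ * 1) = μ * e.repr v j
  rw [hσ, mul_one, mul_comm]

end fin

section cases

variable {K : Type u} [Field K] [Finite K] {V : Type v} [AddCommGroup V] [Module K V] [Module.Finite K V] {b : Cl K V}
  {S A : Subgroup (Equiv.Perm (R K V))} {Z1 X1 Z2 X2 : (R K V)ˣ} {e : Module.Basis (Fin 4) K V}

theorem case_plus (hU : b.IsU) (h2 : (2 : K) ≠ 0) (hD : C6Data S A 2 2) (hSb : S ≤ RB b) (hsol : Group.IsSolvable S)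
    (hQ : Quad b A Z1 X1 Z2 X2 1) (he : Bas Z1 X1 Z2 X2 e) : FiveB b S := by
  have := nontrivial_of hD
  obtain ⟨β, hβ0, hτβ, hG⟩ := gram_one h2 hQ he hU
  obtain ⟨κ, hκ0, hκ, -, hσκ⟩ := exists_kappa b.invol hU.1 h2
  obtain ⟨α, hα⟩ := Cfsg.Agent.TitsThree.PQClass.norm_surj b.τ b.invol hU.1 (show b.τ (-2) = -2 by
    rw [map_neg, map_ofNat])
  have hα0 : α ≠ 0 := by
    rintro rfl
    rw [zero_mul] at hα
    exact h2 (neg_eq_zero.1 hα.symm)
  have hτα0 : b.τ α ≠ 0 := by simpa using hα0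
  have hτ2 : b.τ 2 = 2 := map_ofNat b.τ 2
  have s1 : (1 : K) + κ ≠ 0 := by
    intro h0
    exact one_ne_zero (skew_ind h2 hκ (map_one b.τ) (map_one b.τ) (by rw [one_mul]; exact h0))
  have s2 : (1 : K) - 2 * κ ≠ 0 := by
    intro h0
    exact one_ne_zero (skew_ind (d := -2) h2 hκ (map_one b.τ) (by rw [map_neg, hτ2]) (by linear_combination h0))
  obtain ⟨W, hWd⟩ : ∃ W, W = e 1 + e 2 + α • e 3 := ⟨_, rfl⟩
  let w : Fin 4 → K := ![0, 1, 1, α]
  let ω : Fin 4 → K := ![0, κ, κ, κ * b.τ α]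
  have hW : ∀ j, e.repr W j = w j := by
    intro j
    rw [hWd]
    simp only [map_add, map_smul, Finsupp.add_apply, Finsupp.smul_apply, e.repr_self, smul_eq_mul]
    fin_cases j <;> simp [w]
  have hBW : ∀ k, b.B (e k) W = β * b.τ (w k) := by
    intro k
    rw [hWd, b.add_right, b.add_right, b.smul_right, hG, hG, hG]
    fin_cases k <;> simp [w]
    ring
  have hWW : b.B W W = 0 := by
    rw [show b.B W W = b.B (e 1 + e 2 + α • e 3) W by rw [← hWd]]
    rw [b.add_left, b.add_left, b.smul_left, hBW, hBW, hBW]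
    have w1 : w 1 = 1 := rfl
    have w2 : w 2 = 1 := rfl
    have w3 : w 3 = α := rfl
    rw [w1, w2, w3, map_one]
    linear_combination β * hα
  have hW0 : W ≠ 0 := by
    rintro h0
    have h3 := hW 1
    rw [h0, map_zero, Finsupp.zero_apply] at h3
    exact zero_ne_one h3
  have hN : Nil b (tw b (κ / β) W) W := nil_tw hW0 hWW (s := 1) (one_mul 1) (fun v w => by rw [one_mul]; exact hU.2 v w)
    (map_one _) (by rw [map_div₀, hκ, hτβ]; ring) (div_ne_zero hκ0 hβ0)
  have hx : ∀ k, (uN _ hN.sq : R K V) (e k) = e k + ω k • W := by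
    intro k
    rw [uN_val, LinearMap.add_apply, Module.End.one_apply, tw_apply, hBW]
    congr 2
    have : κ / β * (β * b.τ (w k)) = κ * b.τ (w k) := by field_simp
    rw [this]
    fin_cases k <;> simp [w, ω]
  refine mtB hSb hD hsol (uN _ hN.sq) (det_uN hN) (isom_uN hN) fun f hf hfc hxf => ?_
  generalize uN _ hN.sq = x at hx hxf
  obtain ⟨σ, h, y, L, hfin⟩ := exists_Lf hD (fun f hf => (hSb hf).1) hf hfc hxf
  obtain ⟨s, p, μ, M⟩ := L.mono_h h2 hQ he
  have hX : ∀ j k, e.repr ((x : R K V) (e k)) j = Xm ω w j k := by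
    intro j k
    rw [hx, map_add, Finsupp.add_apply, map_smul, Finsupp.smul_apply, hW, smul_eq_mul, e.repr_self, Xm,
      Finsupp.single_apply]
    simp only [eq_comm]
  have hx0 : (x : R K V) (e 0) = e 0 := by
    rw [hx]
    show e 0 + (0 : K) • W = e 0
    rw [zero_smul, add_zero]
  have X11 : Xm ω w 1 1 = 1 + κ := by simp [Xm, ω, w]
  have X12 : Xm ω w 1 2 = κ := by simp [Xm, ω, w]
  have X13 : Xm ω w 1 3 = κ * b.τ α := by simp [Xm, ω, w]
  have X21 : Xm ω w 2 1 = κ := by simp [Xm, ω, w]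
  have X22 : Xm ω w 2 2 = 1 + κ := by simp [Xm, ω, w]
  have X23 : Xm ω w 2 3 = κ * b.τ α := by simp [Xm, ω, w]
  have X31 : Xm ω w 3 1 = κ * α := by simp [Xm, ω, w]
  have X32 : Xm ω w 3 2 = κ * α := by simp [Xm, ω, w]
  have X33 : Xm ω w 3 3 = 1 - 2 * κ := by
    simp [Xm, ω, w]
    linear_combination κ * hα
  have X0 : ∀ k, Xm ω w 0 k = if 0 = k then 1 else 0 := by
    intro k
    simp [Xm, w]
  have hy0 : y (e 0) = (μ * sg K (ps p 0)) • (x : R K V) (e (sh s 0)) := by
    conv_lhs => rw [← hx0]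
    rw [L.yx, M.2, map_smul]
  have hμ0 : μ * sg K (ps p 0) ≠ 0 := mul_ne_zero M.1 (sg_ne _)
  have hs : s = 0 := by
    by_contra hs
    refine L.no_three h2 hD hQ he hμ0 hy0 0 ?_ ?_
    · have hd : ∀ s : Fin 4, s ≠ 0 → ¬ (0 = sh s 0) := by decide
      rw [hX, X0, if_neg (hd s hs)]
    · intro j hj
      rw [hX]
      have hd : ∀ s j : Fin 4, s ≠ 0 → j ≠ 0 → ((s = 1 ∨ s = 2 ∨ s = 3) ∧ (j = 1 ∨ j = 2 ∨ j = 3)) := by decide
      obtain ⟨h1 | h1 | h1, h3 | h3 | h3⟩ := hd s j hs hj <;> rw [h1, h3]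
      · show Xm ω w 1 1 ≠ 0
        rw [X11]; exact s1
      · show Xm ω w 2 1 ≠ 0
        rw [X21]; exact hκ0
      · show Xm ω w 3 1 ≠ 0
        rw [X31]; exact mul_ne_zero hκ0 hα0
      · show Xm ω w 1 2 ≠ 0
        rw [X12]; exact hκ0
      · show Xm ω w 2 2 ≠ 0
        rw [X22]; exact s1
      · show Xm ω w 3 2 ≠ 0
        rw [X32]; exact mul_ne_zero hκ0 hα0
      · show Xm ω w 1 3 ≠ 0
        rw [X13]; exact mul_ne_zero hκ0 hτα0
      · show Xm ω w 2 3 ≠ 0
        rw [X23]; exact mul_ne_zero hκ0 hτα0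
      · show Xm ω w 3 3 ≠ 0
        rw [X33]; exact s2
  subst hs
  have hy0' : y (e 0) = (μ * sg K (ps p 0)) • e 0 := by
    rw [hy0]
    show _ • (x : R K V) (e 0) = _
    rw [hx0]
  obtain ⟨π, q, hπ, hq, hyq⟩ := L.mono_y h2 hD hQ he hy0'
  have R := L.rel M hW hx hπ hyq
  have hM0 := M.1
  -- `π 0 = 0`
  have π0 : π 0 = 0 := by
    by_contra h0
    have r := R 0 0
    have : Xm ω w (π 0) 0 = 0 := by
      rw [Xm, if_neg h0]
      show 0 + 0 * _ = (0 : K)
      rw [zero_mul, add_zero]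
    rw [this, mul_zero, X0, if_pos rfl, map_one, one_mul] at r
    exact hq 0 r
  have hd3 : ∀ s : Fin 4, s = 0 ∨ s = 1 ∨ s = 2 ∨ s = 3 := by decide
  have hsgτ : ∀ c, b.τ (sg K c) = sg K c := fun c => sg_map (b.τ : K →+* K) c
  have r31 := R 3 1
  have r32 := R 3 2
  rw [X31] at r31
  rw [X32] at r32
  have π3 : π 3 = 3 := by
    rcases hd3 (π 3) with h3 | h3 | h3 | h3
    · exact absurd (hπ (h3.trans π0.symm)) (by decide)
    · exfalso
      rw [h3, X11] at r31
      rw [h3, X12] at r32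
      refine sg_ne (ps p 1) (skew_ind (d := sg K (ps p 1) - sg K (ps p 2)) h2 hκ (hsgτ _) (by
        rw [map_sub, hsgτ, hsgτ]) ?_)
      apply mul_left_cancel₀ hM0
      linear_combination r32 - r31
    · exfalso
      rw [h3, X21] at r31
      rw [h3, X22] at r32
      refine sg_ne (ps p 2) (skew_ind (d := sg K (ps p 2) - sg K (ps p 1)) h2 hκ (hsgτ _) (by
        rw [map_sub, hsgτ, hsgτ]) ?_)
      apply mul_left_cancel₀ hM0
      linear_combination r31 - r32
    · exact h3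
  rw [π3, X31] at r31
  rw [π3, X32] at r32
  have e12 : ps p 1 = ps p 2 := by
    apply sg_inj h2
    have h3 : (μ * (κ * α)) * (sg K (ps p 1) - sg K (ps p 2)) = 0 := by linear_combination r32 - r31
    exact sub_eq_zero.1 ((mul_eq_zero.1 h3).resolve_left (mul_ne_zero hM0 (mul_ne_zero hκ0 hα0)))
  have r11 := R 1 1
  have r12 := R 1 2
  have r13 := R 1 3
  rw [X11, map_add, map_one, e12] at r11
  rw [X12] at r12
  rw [X13] at r13
  rcases hd3 (π 1) with h3 | h3 | h3 | h3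
  · exact absurd (hπ (h3.trans π0.symm)) (by decide)
  · rw [h3, X11] at r11
    rw [h3, X12] at r12
    rw [h3, X13] at r13
    have q1 : q 1 = μ * sg K (ps p 2) := by linear_combination r11 - r12
    rw [q1] at r12 r13
    have hmu : μ * sg K (ps p 2) ≠ 0 := mul_ne_zero hM0 (sg_ne _)
    have k1 : σ κ = κ := by
      have : (μ * sg K (ps p 2)) * (σ κ - κ) = 0 := by linear_combination r12
      exact sub_eq_zero.1 ((mul_eq_zero.1 this).resolve_left hmu)
    have hid := hσκ σ k1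
    rw [hid] at r13
    have e23 : ps p 2 = ps p 3 := by
      apply sg_inj h2
      have h3 : (μ * (κ * b.τ α)) * (sg K (ps p 2) - sg K (ps p 3)) = 0 := by linear_combination r13
      exact sub_eq_zero.1 ((mul_eq_zero.1 h3).resolve_left (mul_ne_zero hM0 (mul_ne_zero hκ0 hτα0)))
    have hp : p = (false, false) := by
      have hd : ∀ p : Bool × Bool, ps p 1 = ps p 2 → ps p 2 = ps p 3 → p = (false, false) := by decide
      exact hd p e12 e23
    exact hfin hid ⟨μ, Lf.end_eq M hp hid⟩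
  · exfalso
    rw [h3, X21] at r11
    rw [h3, X22] at r12
    have q1 : q 1 = -(μ * sg K (ps p 2)) := by linear_combination r11 - r12
    rw [q1] at r12
    have hmu : μ * sg K (ps p 2) ≠ 0 := mul_ne_zero hM0 (sg_ne _)
    have k1 : σ κ = -(1 + κ) := by
      have : (μ * sg K (ps p 2)) * (σ κ + (1 + κ)) = 0 := by linear_combination -r12
      have := (mul_eq_zero.1 this).resolve_left hmu
      linear_combination this
    have k2 := comm_aut σ b.τ κ
    rw [hκ, map_neg, k1, map_neg, map_add, map_one, hκ] at k2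
    apply h2
    linear_combination -k2
  · exact absurd (hπ (h3.trans π3.symm)) (by decide)

theorem case_neg (hU : b.IsU) (h2 : (2 : K) ≠ 0) (hD : C6Data S A 2 2) (hSb : S ≤ RB b) (hsol : Group.IsSolvable S)
    (hQ : Quad b A Z1 X1 Z2 X2 (-1)) (he : Bas Z1 X1 Z2 X2 e) {ι : K} (hι : ι * ι = -1) (hτι : b.τ ι = ι) :
    FiveB b S := by
  have := nontrivial_of hD
  obtain ⟨γ, hγ0, hτγ, hG⟩ := gram_neg h2 hQ he hU
  obtain ⟨t, ht0, ht4, hσt⟩ := exists_t (τ := b.τ) hU.1 h2 hι hτι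
  have hτt0 : b.τ t ≠ 0 := by simpa using ht0
  have hι0 : ι ≠ 0 := by
    rintro rfl
    rw [mul_zero] at hι
    exact neg_ne_zero.2 one_ne_zero hι.symm
  have s1 : (1 : K) + ι ≠ 0 := by
    intro h0
    apply h2
    linear_combination (1 - ι) * h0 + hι
  have s2 : (1 : K) - ι ≠ 0 := by
    intro h0
    apply h2
    linear_combination (1 + ι) * h0 + hι
  have ht4' : (b.τ t) ^ 4 ≠ 1 := by
    intro h0
    apply ht4
    have h3 := congrArg b.τ h0
    rwa [map_pow, b.invol, map_one] at h3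
  obtain ⟨W, hWd⟩ : ∃ W, W = e 0 + t • e 1 + e 2 := ⟨_, rfl⟩
  let w : Fin 4 → K := ![1, t, 1, 0]
  let ω : Fin 4 → K := ![ι, 0, -ι, -(ι * b.τ t)]
  have hW : ∀ j, e.repr W j = w j := by
    intro j
    rw [hWd]
    simp only [map_add, map_smul, Finsupp.add_apply, Finsupp.smul_apply, e.repr_self, smul_eq_mul]
    fin_cases j <;> simp [w]
  have hBW : ∀ k, b.B (e k) W = ![γ, 0, -γ, -(γ * b.τ t)] k := by
    intro k
    rw [hWd, b.add_right, b.add_right, b.smul_right, hG, hG, hG]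
    fin_cases k <;> simp [sh]
    ring
  have hWW : b.B W W = 0 := by
    rw [show b.B W W = b.B (e 0 + t • e 1 + e 2) W by rw [← hWd]]
    rw [b.add_left, b.add_left, b.smul_left, hBW, hBW, hBW]
    show γ + t * 0 + -γ = 0
    ring
  have hW0 : W ≠ 0 := by
    rintro h0
    have h3 := hW 0
    rw [h0, show e.repr (0 : V) = 0 from map_zero _, Finsupp.zero_apply] at h3
    exact zero_ne_one h3
  have hN : Nil b (tw b (ι / γ) W) W := nil_tw hW0 hWW (s := 1) (one_mul 1) (fun v w => by rw [one_mul]; exact hU.2 v w)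
    (map_one _) (by rw [map_div₀, hτι, hτγ]; ring) (div_ne_zero hι0 hγ0)
  have hx : ∀ k, (uN _ hN.sq : R K V) (e k) = e k + ω k • W := by
    intro k
    rw [uN_val, LinearMap.add_apply, Module.End.one_apply, tw_apply, hBW]
    congr 2
    fin_cases k <;> simp [ω] <;> field_simp
  refine mtB hSb hD hsol (uN _ hN.sq) (det_uN hN) (isom_uN hN) fun f hf hfc hxf => ?_
  generalize uN _ hN.sq = x at hx hxf
  obtain ⟨σ, h, y, L, hfin⟩ := exists_Lf hD (fun f hf => (hSb hf).1) hf hfc hxf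
  obtain ⟨s, p, μ, M⟩ := L.mono_h h2 hQ he
  have hX : ∀ j k, e.repr ((x : R K V) (e k)) j = Xm ω w j k := by
    intro j k
    rw [hx, map_add, Finsupp.add_apply, map_smul, Finsupp.smul_apply, hW, smul_eq_mul, e.repr_self, Xm,
      Finsupp.single_apply]
    simp only [eq_comm]
  have hx1 : (x : R K V) (e 1) = e 1 := by
    rw [hx]
    show e 1 + (0 : K) • W = e 1
    rw [zero_smul, add_zero]
  have X00 : Xm ω w 0 0 = 1 + ι := by simp [Xm, ω, w]
  have X10 : Xm ω w 1 0 = ι * t := by simp [Xm, ω, w]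
  have X20 : Xm ω w 2 0 = ι := by simp [Xm, ω, w]
  have X30 : Xm ω w 3 0 = 0 := by simp [Xm, ω, w]
  have X02 : Xm ω w 0 2 = -ι := by simp [Xm, ω, w]
  have X12 : Xm ω w 1 2 = -(ι * t) := by simp [Xm, ω, w]
  have X22 : Xm ω w 2 2 = 1 - ι := by simp [Xm, ω, w]; ring
  have X32 : Xm ω w 3 2 = 0 := by simp [Xm, ω, w]
  have X03 : Xm ω w 0 3 = -(ι * b.τ t) := by simp [Xm, ω, w]
  have X13 : Xm ω w 1 3 = -(ι * b.τ t) * t := by simp [Xm, ω, w]
  have X23 : Xm ω w 2 3 = -(ι * b.τ t) := by simp [Xm, ω, w]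
  have X33 : Xm ω w 3 3 = 1 := by simp [Xm, ω, w]
  have X_1 : ∀ j, Xm ω w j 1 = if j = 1 then 1 else 0 := by
    intro j
    simp [Xm, ω]
  have hy1 : y (e 1) = (μ * sg K (ps p 1)) • (x : R K V) (e (sh s 1)) := by
    conv_lhs => rw [← hx1]
    rw [L.yx, M.2, map_smul]
  have hμ1 : μ * sg K (ps p 1) ≠ 0 := mul_ne_zero M.1 (sg_ne _)
  have hd3 : ∀ s : Fin 4, s = 0 ∨ s = 1 ∨ s = 2 ∨ s = 3 := by decide
  have hs : s = 0 := by
    rcases hd3 s with h0 | h0 | h0 | h0
    · exact h0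
    · exfalso
      subst h0
      refine L.no_three h2 hD hQ he hμ1 hy1 3 ?_ ?_
      · rw [hX]; exact X30
      · intro j hj
        rw [hX]
        show Xm ω w j 0 ≠ 0
        rcases hd3 j with h1 | h1 | h1 | h1 <;> rw [h1]
        · rw [X00]; exact s1
        · rw [X10]; exact mul_ne_zero hι0 ht0
        · rw [X20]; exact hι0
        · exact absurd h1 hj
    · exfalso
      subst h0
      refine L.full h2 hD hQ he hμ1 hy1 (t := t) (u := b.τ t) ?_ ht4 ht4' ?_ ?_ ?_
      · intro j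
        rw [hX]
        show Xm ω w j 3 ≠ 0
        have h5 : -(ι * b.τ t) ≠ 0 := neg_ne_zero.2 (mul_ne_zero hι0 hτt0)
        rcases hd3 j with h1 | h1 | h1 | h1 <;> rw [h1]
        · rw [X03]; exact h5
        · rw [X13]; exact mul_ne_zero h5 ht0
        · rw [X23]; exact h5
        · rw [X33]; exact one_ne_zero
      · rw [hX, hX]
        show Xm ω w 1 3 = t * Xm ω w 0 3
        rw [X13, X03]; ring
      · rw [hX]; exact X33
      · rw [hX]
        show Xm ω w 0 3 * Xm ω w 0 3 = _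
        rw [X03]
        linear_combination (b.τ t * b.τ t) * hι
    · exfalso
      subst h0
      refine L.no_three h2 hD hQ he hμ1 hy1 3 ?_ ?_
      · rw [hX]; exact X32
      · intro j hj
        rw [hX]
        show Xm ω w j 2 ≠ 0
        rcases hd3 j with h1 | h1 | h1 | h1 <;> rw [h1]
        · rw [X02]; exact neg_ne_zero.2 hι0
        · rw [X12]; exact neg_ne_zero.2 (mul_ne_zero hι0 ht0)
        · rw [X22]; exact s2
        · exact absurd h1 hj
  subst hs
  have hy1' : y (e 1) = (μ * sg K (ps p 1)) • e 1 := by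
    rw [hy1]
    show _ • (x : R K V) (e 1) = _
    rw [hx1]
  obtain ⟨π, q, hπ, hq, hyq⟩ := L.mono_y h2 hD hQ he hy1'
  have R := L.rel M hW hx hπ hyq
  have hM0 := M.1
  have r11 := R 1 1
  rw [X_1, X_1, if_pos rfl, map_one, one_mul] at r11
  have π1 : π 1 = 1 := by
    by_contra h0
    rw [if_neg h0, mul_zero] at r11
    exact hq 1 r11
  rw [if_pos π1, mul_one] at r11
  have r10 := R 1 0
  have r12 := R 1 2
  rw [π1, X10, r11] at r10
  rw [π1, X12, r11, map_neg] at r12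
  have e02 : ps p 0 = ps p 2 := by
    apply sg_inj h2
    have h3 : (μ * (ι * t)) * (sg K (ps p 0) - sg K (ps p 2)) = 0 := by linear_combination -r10 - r12
    exact sub_eq_zero.1 ((mul_eq_zero.1 h3).resolve_left (mul_ne_zero hM0 (mul_ne_zero hι0 ht0)))
  have r00 := R 0 0
  have r02 := R 0 2
  rw [X00, map_add, map_one] at r00
  rw [X02, map_neg, ← e02] at r02
  rw [map_mul] at r10
  have hmu : μ * sg K (ps p 0) ≠ 0 := mul_ne_zero hM0 (sg_ne _)
  rcases hd3 (π 0) with h3 | h3 | h3 | h3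
  · rw [h3, X00] at r00
    rw [h3, X02] at r02
    have q0 : q 0 = μ * sg K (ps p 0) := by linear_combination r00 + r02
    rw [q0] at r02
    have k1 : σ ι = ι := by
      have : (μ * sg K (ps p 0)) * (σ ι - ι) = 0 := by linear_combination -r02
      exact sub_eq_zero.1 ((mul_eq_zero.1 this).resolve_left hmu)
    rw [k1] at r10
    have k2 : σ t * sg K (ps p 1) = sg K (ps p 0) * t := by
      have : (μ * ι) * (σ t * sg K (ps p 1) - sg K (ps p 0) * t) = 0 := by linear_combination r10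
      exact sub_eq_zero.1 ((mul_eq_zero.1 this).resolve_left (mul_ne_zero hM0 hι0))
    have k3 : sg K (ps p 0) = 1 := rfl
    rw [k3, one_mul] at k2
    have hst : σ t = t ∨ σ t = -t := by
      cases hc : ps p 1
      · left
        rw [hc] at k2
        have k4 : sg K false = 1 := rfl
        rw [k4] at k2
        linear_combination k2
      · right
        rw [hc] at k2
        have k4 : sg K true = -1 := rfl
        rw [k4] at k2
        linear_combination -k2
    have hid := hσt σ hst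
    rw [hid] at k2
    have e01 : ps p 1 = ps p 0 := by
      apply sg_inj h2
      have : t * (sg K (ps p 1) - sg K (ps p 0)) = 0 := by rw [k3]; linear_combination k2
      exact sub_eq_zero.1 ((mul_eq_zero.1 this).resolve_left ht0)
    have hp : p = (false, false) := by
      have hd : ∀ p : Bool × Bool, ps p 1 = ps p 0 → ps p 0 = ps p 2 → p = (false, false) := by decide
      exact hd p e01 e02
    exact hfin hid ⟨μ, Lf.end_eq M hp hid⟩
  · exact absurd (hπ (h3.trans π1.symm)) (by decide)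
  · exfalso
    rw [h3, X20] at r00
    rw [h3, X22] at r02
    have q0 : q 0 = μ * sg K (ps p 0) := by linear_combination r00 + r02
    rw [q0] at r02
    have k1 : σ ι = ι - 1 := by
      have : (μ * sg K (ps p 0)) * (σ ι - (ι - 1)) = 0 := by linear_combination -r02
      exact sub_eq_zero.1 ((mul_eq_zero.1 this).resolve_left hmu)
    have k2 : σ ι * σ ι = -1 := by rw [← map_mul, hι, map_neg, map_one]
    rw [k1] at k2
    have k3 : 2 * ι = 1 := by linear_combination hι - k2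
    have k4 := congrArg σ k3
    rw [map_mul, map_one, k1, map_ofNat] at k4
    apply h2
    linear_combination k3 - k4
  · exfalso
    rw [h3, X30, mul_zero] at r00
    rcases mul_eq_zero.1 r00 with h4 | h4
    · apply s1
      exact (map_eq_zero_iff σ σ.injective).1 (by rw [map_add, map_one]; exact h4)
    · exact hq 0 h4

end cases

theorem two_ne {K : Type u} [Field K] {V : Type v} [AddCommGroup V] [Module K V]
    {S A : Subgroup (Equiv.Perm (R K V))} {a : ℕ} (h : C6Data S A 2 a) : (2 : K) ≠ 0 := by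
  have := nontrivial_of h
  obtain ⟨x, hx, hns⟩ := exists_nonscal h
  obtain ⟨y, hy, c, hc1, hc2, -⟩ := exists_conj h hx hns
  intro h2
  apply hc1
  have h3 : (c - 1) * (c - 1) = 0 := by linear_combination hc2 - (c - 1) * h2
  exact sub_eq_zero.1 (mul_self_eq_zero.1 h3)

/-- **unitary, `n = 4`** -/
theorem stmtBC6_U4 : Cfsg.Agent.H786.FC.StmtBC6On.{u, v} true fun n => n = 4 := by
  intro K _ _ V _ _ _ b hk hb hn S hSb hsol A r a h
  have hU := hk.1 rfl
  have hn' : Module.finrank K V = 4 := hn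
  have hr : r = 2 := by
    have h1 := h.2.2.1
    rw [hn'] at h1
    have h2 : (2 : ℕ) ∣ r ^ a := by rw [← h1]; norm_num
    exact ((Nat.prime_dvd_prime_iff_eq Nat.prime_two h.1).1 (Nat.prime_two.dvd_of_dvd_pow h2)).symm
  subst hr
  have ha : a = 2 := by
    have h1 := h.2.2.1
    rw [hn'] at h1
    exact (Nat.pow_right_injective (le_refl 2) (show 2 ^ 2 = 2 ^ a by rw [← h1])).symm
  subst ha
  have h2 := two_ne h
  obtain ⟨Z1, X1, Z2, X2, hQ | ⟨hQ, i, hi, hτi⟩⟩ := exists_quad hU h2 h hSb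
  · obtain ⟨e, he⟩ := exists_basis h2 hn' hQ
    exact case_plus hU h2 h hSb hsol hQ he
  · obtain ⟨e, he⟩ := exists_basis h2 hn' hQ
    exact case_neg hU h2 h hSb hsol hQ he hi hτi

end Cfsg.Agent.H412.FC.UFour
end
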